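import Cfsg.Agent.H94.ModelResiduals
import Cfsg.Agent.H94.SolvableSystems
import Cfsg.Agent.H94.PPowerExists
import Cfsg.Agent.H94.ResidualNormal
import Cfsg.Agent.H94.PPrimeResidual
import Cfsg.Agent.S5090

/-! Terminating residual series and `p`-soluble models. -/

set_option autoImplicit false

namespace Cfsg.Agent.H94

open Cfsg Cfsg.FusionSystem Cfsg.Agent.H96

universe u

variable {p : ℕ} [Fact p.Prime]

/-- A saturated system is weakly normal in itself. -/
theorem weaklyNormal_self {Ω : Type*} [Group Ω] {S : Subgroup Ω} {F : FusionSystem S} (hF : F.IsSaturated p) :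
    F.IsWeaklyNormalIn F p := by
  refine ⟨hF, hF, fun P φ h => h, ⟨le_rfl, fun R _ φ hφ x => (F.le_of_mem hφ).2 x⟩,
    fun P hP φ hφ α hα => ?_, fun P hP φ hφ => ⟨1, one_mem _, φ, hφ, fun x hx => rfl⟩⟩
  have hP' : (P.subgroupOf S).map (S.subtype.comp α.toMonoidHom) ≤ S := by
    rintro _ ⟨x, -, rfl⟩; exact (α x).2
  have h1 := res_mem F ((mem_autGroup F le_rfl).1 (inv_mem hα)) hP'
  have hback : ∀ z, res (S.subtype.comp (α⁻¹).toMonoidHom) hP' z ∈ P := by
    rintro ⟨_, x, hx, rfl⟩
    show ((α.symm (α x) : S) : Ω) ∈ P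
    rw [α.symm_apply_apply]
    exact hx
  obtain ⟨χ₁, hχ₁, hχ₁e⟩ := exists_comp F h1 hφ hback
  obtain ⟨χ, hχ, hχe⟩ := exists_comp F hχ₁ ((mem_autGroup F le_rfl).1 hα) (F.le_of_mem hχ₁).2
  refine ⟨χ, hχ, fun x hφx hαx => ?_⟩
  rw [hχe]
  refine congrArg (fun z : S => ((α z : S) : Ω)) (Subtype.ext ?_)
  show χ₁ _ = φ x
  rw [hχ₁e]
  refine congrArg φ (Subtype.ext ?_)
  show ((α.symm (α ⟨x, hP x.2⟩) : S) : Ω) = x
  rw [α.symm_apply_apply]

/-- A system with a terminating residual series is solvable. -/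
theorem isSolvableSystem_of_terminating {p : ℕ} {Ω : Type u} [Group Ω] {S : Subgroup Ω} {F : FusionSystem S}
    (h : F.HasTerminatingResidualSeries p) : Fact p.Prime → Finite S → IsPGroup p S → F.IsSaturated p → F.IsSolvableSystem := by
  induction h with
  | trivial F p hS =>
    intro hpr hfin hp hF
    subst hS
    rw [isSolvableSystem_iff hp hF]
    exact ⟨0, fun _ => ⊥, rfl, fun _ _ => rfl, fun _ _ _ => le_rfl,
      fun _ => H96.stronglyClosed_bot F, fun _ => Subgroup.commutator_le_self _⟩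
  | @step S F E p D hE hD _ ih =>
    intro hpr hfin hp hF
    have hTS : (E.hyperfocalSubgroup p) ≤ S := hyperfocal_le E p
    have hTn : ∀ s ∈ S, ∀ t ∈ (E.hyperfocalSubgroup p), s * t * s⁻¹ ∈ (E.hyperfocalSubgroup p) := fun s hs t ht => conj_mem_hyperfocal hs ht
    have hDsol := ih hpr (finite_of_le hTS) (hp.to_le hTS) hD.1
    have hEs := hE.1
    have hDE : D.IsNormalIn E p := pPowerIndex_isNormalIn hp hEs hTS hTn hD.1 hD.2
    have hTsc : E.StronglyClosed (E.hyperfocalSubgroup p) := stronglyClosed_of_hyperfocal_le hp hEs hTS hTn le_rfl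
    have hTno : ((E.hyperfocalSubgroup p).subgroupOf S).Normal := ⟨fun t ht s => hTn s s.2 t ht⟩
    set θ := QuotientGroup.mk' ((E.hyperfocalSubgroup p).subgroupOf S)
    have hker : ∀ s : S, θ s = 1 ↔ (s : Ω) ∈ (E.hyperfocalSubgroup p) := fun s => by
      rw [QuotientGroup.mk'_apply, QuotientGroup.eq_one_iff, Subgroup.mem_subgroupOf]
    obtain ⟨D', hD'⟩ := exists_factorSystem E (E.hyperfocalSubgroup p) hTsc θ hker
      (MonoidHom.range_eq_top.2 (QuotientGroup.mk'_surjective _))
    have hQp : IsPGroup p (S ⧸ (E.hyperfocalSubgroup p).subgroupOf S) := hp.to_quotient _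
    have hEsol : E.IsSolvableSystem := by
      refine (isSolvableSystem_extension hp hEs hDE.1 hD').2 ⟨hDsol, ?_⟩
      rw [isSolvableSystem_iff (hQp.to_subgroup ⊤) (factor_isSaturated hp hEs hTsc hD')]
      have := hQp.isNilpotent
      obtain ⟨n, hn⟩ := (inferInstance : Group.IsSolvable (S ⧸ (E.hyperfocalSubgroup p).subgroupOf S)).solvable
      refine ⟨n, fun i => derivedSeries _ (n - i), by simp [hn], fun i hi => by
        show derivedSeries _ (n - i) = ⊤
        rw [Nat.sub_eq_zero_of_le hi]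
        rfl, fun i j hij => derivedSeries_antitone _ (Nat.sub_le_sub_left hij n), fun i => ?_, fun i => ?_⟩
      · set A := derivedSeries (S ⧸ (E.hyperfocalSubgroup p).subgroupOf S) (n - i)
        have hX : E.StronglyClosed (preimageAlong θ A) := by
          refine stronglyClosed_of_hyperfocal_le hp hEs preimageAlong_le (fun s hs x hx => ?_) fun x hx => ?_
          · obtain ⟨hxS, hxA⟩ := mem_preimageAlong.1 hx
            refine mem_preimageAlong.2 ⟨S.mul_mem (S.mul_mem hs hxS) (S.inv_mem hs), ?_⟩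
            rw [show (⟨s * x * s⁻¹, _⟩ : S) = ⟨s, hs⟩ * ⟨x, hxS⟩ * ⟨s, hs⟩⁻¹ from rfl, map_mul, map_mul, map_inv]
            exact (derivedSeries_normal _ _).conj_mem _ hxA _
          · exact mem_preimageAlong.2 ⟨hTS hx, by rw [(hker ⟨x, hTS hx⟩).2 hx]; exact one_mem _⟩
        have h2 := stronglyClosed_imageAlong hp hEs hTsc hD' hX
        convert h2 using 1
        ext y
        constructor
        · intro hy
          obtain ⟨s, rfl⟩ := QuotientGroup.mk'_surjective ((E.hyperfocalSubgroup p).subgroupOf S) y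
          exact mem_imageAlong.2 ⟨s, mem_preimageAlong.2 ⟨s.2, hy⟩, rfl⟩
        · intro hy
          obtain ⟨s, hs, rfl⟩ := mem_imageAlong.1 hy
          exact (mem_preimageAlong.1 hs).2
      · show ⁅derivedSeries _ (n - (i + 1)), derivedSeries _ (n - (i + 1))⁆ ≤ derivedSeries _ (n - i)
        by_cases hi : i < n
        · rw [show n - i = (n - (i + 1)) + 1 by omega]
          exact le_rfl
        · rw [show n - i = 0 by omega]
          exact le_top
    -- the trivial factor above `E`
    have hEF : E.IsNormalIn F p := pPrimeResidual_isNormalIn hp (weaklyNormal_self hF) hE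
    have hSsc : F.StronglyClosed S := ⟨le_rfl, fun R _ φ hφ x => (F.le_of_mem hφ).2 x⟩
    obtain ⟨F', hF'⟩ := exists_factorSystem F S hSsc (S' := (⊥ : Subgroup Ω)) (1 : S →* Ω)
      (fun s => by simp) (by simp)
    refine (isSolvableSystem_extension hp hF hEF.1 hF').2 ⟨hEsol, ?_⟩
    rw [isSolvableSystem_iff (IsPGroup.of_bot) (factor_isSaturated hp hF hSsc hF')]
    exact ⟨0, fun _ => ⊥, rfl, fun _ _ => rfl, fun _ _ _ => le_rfl,
      fun _ => H96.stronglyClosed_bot F', fun _ => Subgroup.commutator_le_self _⟩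

/-- The models of a system with a terminating residual series are `p`-soluble. -/
theorem charSeries_of_terminating {p : ℕ} {Ω : Type u} [Group Ω] {S : Subgroup Ω} {F : FusionSystem S}
    (h : F.HasTerminatingResidualSeries p) : Fact p.Prime → Finite S → IsPGroup p S →
      ∀ (G : Type u) [Group G] (ι : S →* G), F.IsModel p G ι → CharSeries p G := by
  induction h with
  | trivial F p hS =>
    intro hpr hfin hp G _ ι hG
    obtain ⟨hG', -, hR, hc⟩ := hG
    have hrb : ι.range = ⊥ := by
      rw [eq_bot_iff]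
      rintro _ ⟨s, rfl⟩
      rw [show s = 1 from Subtype.ext (Subgroup.mem_bot.1 (hS ▸ s.2 : (s : Ω) ∈ (⊥ : Subgroup Ω))), map_one]
      exact one_mem _
    have hQ : pCore p G = ⊥ := le_bot_iff.1 ((H93.pCore_le_range hR).trans hrb.le)
    have : Subsingleton G := by
      refine ⟨fun a b => ?_⟩
      have h1 : ∀ x : G, x = 1 := fun x => by
        have hx := hc (show x ∈ Subgroup.centralizer ((pCore p G : Subgroup G) : Set G) by
          rw [hQ]; simp [Subgroup.mem_centralizer_iff])
        rwa [hQ, Subgroup.mem_bot] at hx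
      rw [h1 a, h1 b]
    exact charSeries_of_subsingleton
  | @step S F E p D hE hD _ ih =>
    intro hpr hfin hp G _ ι hG
    have := hG.1
    obtain ⟨ι₁, h₁⟩ := pPrimeResidual_model hp hG hE
    obtain ⟨-, ι₂, h₂⟩ := pResidual_model hp h₁ hD
    have hTS : E.hyperfocalSubgroup p ≤ S := hyperfocal_le E p
    have h3 := ih hpr (finite_of_le hTS) (hp.to_le hTS) _ ι₂ h₂
    exact (h3.extend (Or.inl exists_pResidual_index)).extend (Or.inr pClosure_index_coprime)

/-- Systems with `p`-soluble models have terminating residual series. -/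
theorem terminating_of_model {Ω : Type u} [Group Ω] {S : Subgroup Ω} [Finite S] (hS : IsPGroup p S)
    {F : FusionSystem S} {G : Type u} [Group G] {ι : S →* G} (hG : F.IsModel p G ι)
    (hsol : Cfsg.IsPSolvable p G) : F.HasTerminatingResidualSeries p := by
  obtain ⟨n, hn⟩ : ∃ n, Nat.card S = n := ⟨_, rfl⟩
  induction n using Nat.strong_induction_on generalizing S G with
  | _ n ih =>
  by_cases hbot : S = ⊥
  · exact .trivial F p hbot
  have := hG.1
  have hF : F.IsSaturated p := H93.IsRealizedBy.isSaturated hG.2.1 hG.2.2.1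
  obtain ⟨E, hE, -⟩ := exists_pPrimeResidual hS hF
  obtain ⟨D, hD, hD'⟩ := exists_pPowerIndex hS hE.1 (hyperfocal_le E p) le_rfl
  obtain ⟨ι₁, h₁⟩ := pPrimeResidual_model hS hG hE
  obtain ⟨hiff, ι₂, h₂⟩ := pResidual_model hS h₁ (D := D) ⟨hD, hD'⟩
  have hs₁ := H35.isPSolvable_subgroup hsol (pClosure p G)
  have hne : Nontrivial (pClosure p G) := by
    obtain ⟨x, hx⟩ : ∃ x : S, x ≠ 1 := by
      by_contra hcon
      push Not at hcon
      exact hbot ((Subgroup.eq_bot_iff_forall _).2 fun x hx => congrArg Subtype.val (hcon ⟨x, hx⟩))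
    exact ⟨⟨ι₁ x, 1, fun h => hx (h₁.2.1.1 (h.trans (map_one ι₁).symm))⟩⟩
  have hTS : E.hyperfocalSubgroup p ≤ S := hyperfocal_le E p
  have hlt : Nat.card (E.hyperfocalSubgroup p) < n := by
    rw [← hn]
    refine lt_of_le_of_ne (Subgroup.card_le_of_le hTS) fun e => pResidual_ne_top hs₁ pClosure_pClosure ?_
    have heq := Subgroup.eq_of_le_of_card_ge hTS e.ge
    obtain ⟨R, hR⟩ := h₁.2.2.1
    have hRle : (R : Subgroup (pClosure p G)) ≤ pResidual p (pClosure p G) := by
      rw [hR]
      rintro _ ⟨s, rfl⟩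
      exact (hiff s).1 (by rw [heq]; exact s.2)
    obtain ⟨m, hm⟩ := exists_pResidual_index (G := pClosure p G) (p := p)
    have hd := Subgroup.index_dvd_of_le hRle
    rw [hm] at hd
    rcases m with _ | m
    · exact Subgroup.index_eq_one.1 (by rw [hm, pow_zero])
    · exact absurd ((dvd_pow_self p m.succ_ne_zero).trans hd) R.not_dvd_index
  have := finite_of_le hTS
  exact .step F E p D hE ⟨hD, hD'⟩
    (ih _ hlt (hS.to_le hTS) h₂ (H35.isPSolvable_subgroup hs₁ _) rfl)

/-- Terminating residual series exist exactly for constrained systems with `p`-soluble models. -/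
theorem terminating_iff {Ω : Type u} [Group Ω] {S : Subgroup Ω} [Finite S] (hS : IsPGroup p S)
    {F : FusionSystem S} (hF : F.IsSaturated p) :
    F.HasTerminatingResidualSeries p ↔
      (F.IsConstrained p ∧ ∀ (G : Type u) [Group G] (ι : S →* G), F.IsModel p G ι → Cfsg.IsPSolvable p G) := by
  refine ⟨fun h => ⟨isConstrained_of_solvable hS hF (isSolvableSystem_of_terminating h inferInstance inferInstance hS hF),
    fun G _ ι hG => (charSeries_of_terminating h inferInstance inferInstance hS G ι hG).isPSolvable⟩, fun ⟨hc, hsol⟩ => ?_⟩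
  obtain ⟨L, hL, ι, hm⟩ := S5090.result p hS F hc
  exact terminating_of_model hS hm (hsol L ι hm)

end Cfsg.Agent.H94
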