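import Cfsg.Agent.H94.PPowerExists
import Cfsg.Prelude.Def_FusionReduction

/-! The residual limit of a normal subsystem of `p`-power index is that of the system. -/

set_option autoImplicit false

namespace Cfsg.Agent.H94

open Cfsg Cfsg.FusionSystem Cfsg.Agent.H96

universe u

variable {Ω : Type u} [Group Ω] {p : ℕ}

/-- Subsystems of `p`-power index contain `O^p` of the automizers inside `O^p` of their own. -/
theorem pResidual_autGroup_le {S T : Subgroup Ω} {F : FusionSystem S} {E : FusionSystem T}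
    (hidx : E.HasPPowerIndexIn F p) {P : Subgroup Ω} (hP : P ≤ T) :
    (pResidual p (F.autGroup P)).map (F.autGroup P).subtype ≤
      (pResidual p (E.autGroup P)).map (E.autGroup P).subtype := by
  rw [pResidual, MonoidHom.map_closure, Subgroup.closure_le]
  rintro _ ⟨g, hg, rfl⟩
  have hgE : (g : MulAut P) ∈ E.autGroup P := hidx.2.2 P hP ⟨g, Subgroup.subset_closure hg, rfl⟩
  refine ⟨⟨g, hgE⟩, Subgroup.subset_closure ?_, rfl⟩
  show Nat.Coprime _ p
  rw [← Subgroup.orderOf_coe]
  exact (Subgroup.orderOf_coe g).symm ▸ hg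

variable [Fact p.Prime]

/-- A subsystem of `p`-power index has the same hyperfocal subgroup. -/
theorem hyperfocal_eq_of_pPowerIndex {S T : Subgroup Ω} [Finite S] (hS : IsPGroup p S) {F : FusionSystem S}
    {E : FusionSystem T} (hTc : F.StronglyClosed T) (hidx : E.HasPPowerIndexIn F p) :
    E.hyperfocalSubgroup p = F.hyperfocalSubgroup p := by
  have hTS := hTc.1
  have := finite_of_le hTS
  have hle : ∀ {U : Subgroup Ω}, U ≤ T → E.autGroup U ≤ F.autGroup U := fun hU a ha =>
    (mem_autGroup F (hU.trans hTS)).2 (hidx.1 _ ((mem_autGroup E hU).1 ha))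
  refine le_antisymm ((Subgroup.closure_le _).2 ?_) ((Subgroup.closure_le _).2 ?_)
  · rintro _ ⟨P, α, x, hP, hα, rfl⟩
    exact inv_mul_apply_mem_hyperfocal (hP.trans hTS)
      ⟨Subgroup.inclusion (hle hP) α, H50.map_pResidual_le p _ ⟨α, hα, rfl⟩, rfl⟩ x
  rintro _ ⟨P, α, x, hP, hα, rfl⟩
  suffices h : ∀ β ∈ pResidual p (F.autGroup P), ∀ x : P,
      (x : Ω)⁻¹ * (((β : MulAut P) x : P) : Ω) ∈ E.hyperfocalSubgroup p from h α hα x
  intro β hβ
  induction hβ using Subgroup.closure_induction with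
  | one => intro x; simp
  | mul a b _ _ ha hb =>
    intro x
    have h := mul_mem (hb x) (ha ((b : MulAut P) x))
    simpa [mul_assoc] using h
  | inv a _ ha =>
    intro x
    have h := inv_mem (ha ((a : MulAut P).symm x))
    rw [MulEquiv.apply_symm_apply] at h
    simpa using h
  | mem b hb =>
    intro x
    set W := E.hyperfocalSubgroup p
    set U := P ⊓ T
    have hUT : U ≤ T := inf_le_right
    obtain ⟨k', hk', hk'e⟩ := exists_pResidual_restrict (F := F) (U := P) (V := U) inf_le_left hP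
      (fun a ha z hz => ⟨(a z).2, H93.StronglyClosed.apply_mem hTc ((mem_autGroup F hP).1 ha) z hz.2⟩)
      (k := (b : MulAut P)) ⟨b, Subgroup.subset_closure hb, rfl⟩
    have hW : ∀ z : U, (z : Ω)⁻¹ * (((b : MulAut P) ⟨z, z.2.1⟩ : P) : Ω) ∈ W := fun z => by
      rw [← hk'e z]
      exact inv_mul_apply_mem_hyperfocal hUT (pResidual_autGroup_le hidx hUT hk') z
    set y : Ω := (x : Ω)⁻¹ * (((b : MulAut P) x : P) : Ω)
    have hgen : ∀ z : P, (z : Ω)⁻¹ * (((b : MulAut P) z : P) : Ω) ∈ T := fun z =>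
      hidx.2.1 (inv_mul_apply_mem_hyperfocal hP ⟨b, Subgroup.subset_closure hb, rfl⟩ z)
    have hyT : y ∈ T := hgen x
    have key : ∀ n : ℕ, ∃ w ∈ W, (((((b : MulAut P) ^ n) x : P)) : Ω) = (x : Ω) * w * y ^ n := by
      intro n
      induction n with
      | zero => exact ⟨1, W.one_mem, by simp⟩
      | succ n ih =>
        obtain ⟨w, hw, he⟩ := ih
        have hwT : w ∈ T := hyperfocal_le E p hw
        have huU : w * y ^ n ∈ U := by
          refine ⟨?_, T.mul_mem hwT (T.pow_mem hyT n)⟩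
          rw [show w * y ^ n = (x : Ω)⁻¹ * ((((b : MulAut P) ^ n) x : P) : Ω) by rw [he]; group]
          exact P.mul_mem (P.inv_mem x.2) (Subtype.mem _)
        set u : U := ⟨_, huU⟩
        set w' := (u : Ω)⁻¹ * (((b : MulAut P) ⟨u, u.2.1⟩ : P) : Ω)
        have hw' : w' ∈ W := hW u
        refine ⟨(y * w * y⁻¹) * (y ^ (n + 1) * w' * (y ^ (n + 1))⁻¹), mul_mem (conj_mem_hyperfocal hyT hw)
          (conj_mem_hyperfocal (T.pow_mem hyT _) hw'), ?_⟩
        rw [pow_succ' (b : MulAut P), MulAut.mul_apply,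
          show ((b : MulAut P) ^ n) x = x * ⟨u, u.2.1⟩ from Subtype.ext (by rw [he]; exact mul_assoc _ _ _),
          map_mul, Subgroup.coe_mul]
        rw [show (((b : MulAut P) x : P) : Ω) = (x : Ω) * y from (mul_inv_cancel_left _ _).symm,
          show (((b : MulAut P) ⟨u, u.2.1⟩ : P) : Ω) = (w * y ^ n) * w' from (mul_inv_cancel_left _ _).symm,
          pow_succ' y]
        group
    set m := orderOf (b : MulAut P)
    obtain ⟨w, hw, he⟩ := key m
    rw [pow_orderOf_eq_one, MulAut.one_apply] at he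
    have hym : y ^ m ∈ W := by
      have h : w * y ^ m = 1 := by
        have := he.symm
        rw [mul_assoc, mul_eq_left] at this
        exact this
      rw [← inv_eq_of_mul_eq_one_right h]
      exact W.inv_mem hw
    obtain ⟨j, hj⟩ := hS.to_le hTS ⟨y, hyT⟩
    have hyj : y ^ p ^ j = 1 := congrArg Subtype.val hj
    have hcop : m.Coprime (p ^ j) := Nat.Coprime.pow_right _ (by
      show (orderOf (b : MulAut P)).Coprime p
      rw [Subgroup.orderOf_coe]; exact hb)
    have hz : y ^ ((m.gcd (p ^ j) : ℕ) : ℤ) ∈ W := by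
      rw [Nat.gcd_eq_gcd_ab, zpow_add, zpow_mul, zpow_mul]
      exact mul_mem (zpow_mem (by rw [zpow_natCast]; exact hym) _)
        (zpow_mem (by rw [zpow_natCast, hyj]; exact W.one_mem) _)
    rwa [hcop.gcd_eq_one, Nat.cast_one, zpow_one] at hz

/-- The residual systems of a stable system are itself. -/
theorem stable_step {S T : Subgroup Ω} [Finite S] (hS : IsPGroup p S) {F : FusionSystem S}
    (hF : F.IsSaturated p) (hst : F.hyperfocalSubgroup p = S) (hpr : F.IsPPrimeResidual p F)
    (e : T = S) {D D' : FusionSystem T} (hD : D.IsSaturated p) (hDi : D.HasPPowerIndexIn F p)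
    (hD' : D.IsPPrimeResidual p D') :
    D'.hyperfocalSubgroup p = T ∧ D'.IsPPrimeResidual p D' ∧ ∀ P : Subgroup Ω, D'.Hom P = F.Hom P := by
  subst e
  have hFF : F.HasPPowerIndexIn F p := ⟨fun P φ h => h, hst.le, fun P hP => Subgroup.map_subtype_le _⟩
  obtain rfl : D = F := pPowerIndex_unique hS le_rfl hD hDi hF hFF
  obtain rfl : D' = D := H93.fs_antisymm hD'.2.1.1 (hpr.2.2 D' hD'.1 hD'.2.1)
  exact ⟨hst, hpr, fun P => rfl⟩

/-- The limit of a stable system has its maps. -/
theorem limit_of_stable {U S : Subgroup Ω} {Einf : FusionSystem U} {F : FusionSystem S} {p : ℕ}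
    (h : Einf.IsResidualLimitOf F p) : Fact p.Prime → Finite S → IsPGroup p S → F.IsSaturated p →
      F.hyperfocalSubgroup p = S → F.IsPPrimeResidual p F → ∀ P : Subgroup Ω, Einf.Hom P = F.Hom P := by
  induction h with
  | stable F p _ _ => intros; rfl
  | step F p D D' hD hD' _ ih =>
    intro hp hfin hS hF hst hpr P
    obtain ⟨h1, h2, h3⟩ := stable_step hS hF hst hpr hst hD.1 hD.2 hD'
    rw [ih hp (finite_of_le (hyperfocal_le F p)) (hS.to_le (hyperfocal_le F p)) hD'.1 h1 h2 P, h3 P]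

/-- The limit is unique. -/
theorem limit_unique {U S : Subgroup Ω} {Finf : FusionSystem U} {F : FusionSystem S} {p : ℕ}
    (h : Finf.IsResidualLimitOf F p) : Fact p.Prime → Finite S → IsPGroup p S → F.IsSaturated p →
      ∀ {V : Subgroup Ω} (Einf : FusionSystem V), Einf.IsResidualLimitOf F p →
        ∀ P : Subgroup Ω, Finf.Hom P = Einf.Hom P := by
  induction h with
  | stable F p h1 h2 => exact fun hp hfin hS hF V Einf hE P => (limit_of_stable hE hp hfin hS hF h1 h2 P).symm
  | step F p D D' hD hD' hrest ih =>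
    intro hp hfin hS hF V Einf hE P
    cases hE with
    | stable F p h1 h2 => exact limit_of_stable (IsResidualLimitOf.step F p D D' hD hD' hrest) hp hfin hS hF h1 h2 P
    | step F p D₂ D₂' hD₂ hD₂' hrest₂ =>
      have hTS := hyperfocal_le F p
      obtain rfl : D₂ = D := pPowerIndex_unique hS hTS hD₂.1 hD₂.2 hD.1 hD.2
      obtain rfl : D₂' = D' := H93.fs_antisymm (hD₂'.2.2 D' hD'.1 hD'.2.1) (hD'.2.2 D₂' hD₂'.1 hD₂'.2.1)
      exact ih hp (finite_of_le hTS) (hS.to_le hTS) hD'.1 Einf hrest₂ P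

/-- Comparison of the first steps. -/
theorem limit_step_eq {S T₁ T₂ U V : Subgroup Ω} [Finite S] (hS : IsPGroup p S) {F : FusionSystem S}
    (hTS : T₁ ≤ S) (e : T₁ = T₂) {D D' : FusionSystem T₁} {D₂ D₂' : FusionSystem T₂}
    (hD : D.IsSaturated p) (hDi : D.HasPPowerIndexIn F p) (hD' : D.IsPPrimeResidual p D')
    (hD₂ : D₂.IsSaturated p) (hD₂i : D₂.HasPPowerIndexIn F p) (hD₂' : D₂.IsPPrimeResidual p D₂')
    {Finf : FusionSystem U} (hFinf : Finf.IsResidualLimitOf D' p) {Einf : FusionSystem V}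
    (hEinf : Einf.IsResidualLimitOf D₂' p) : ∀ P : Subgroup Ω, Finf.Hom P = Einf.Hom P := by
  subst e
  obtain rfl : D₂ = D := pPowerIndex_unique hS hTS hD₂ hD₂i hD hDi
  obtain rfl : D₂' = D' := H93.fs_antisymm (hD₂'.2.2 D' hD'.1 hD'.2.1) (hD'.2.2 D₂' hD₂'.1 hD₂'.2.1)
  exact limit_unique hFinf inferInstance (finite_of_le hTS) (hS.to_le hTS) hD'.1 Einf hEinf

/-- The residual limit of a normal subsystem of `p`-power index. -/
theorem limit_eq_of_pPowerIndex {S T U V : Subgroup Ω} [Finite S] (hS : IsPGroup p S) {F : FusionSystem S}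
    (hF : F.IsSaturated p) {E : FusionSystem T} (hTc : F.StronglyClosed T) (hEs : E.IsSaturated p)
    (hidx : E.HasPPowerIndexIn F p) {Finf : FusionSystem U} (hFinf : Finf.IsResidualLimitOf F p)
    {Einf : FusionSystem V} (hEinf : Einf.IsResidualLimitOf E p) :
    ∀ P : Subgroup Ω, Finf.Hom P = Einf.Hom P := by
  have hTS := hTc.1
  have heq := hyperfocal_eq_of_pPowerIndex hS hTc hidx
  cases hFinf with
  | stable F p h1 h2 =>
    obtain rfl : T = S := le_antisymm hTS (h1.ge.trans hidx.2.1)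
    obtain rfl : E = F := pPowerIndex_unique hS le_rfl hEs hidx hF
      ⟨fun P φ h => h, h1.le, fun P hP => Subgroup.map_subtype_le _⟩
    exact limit_unique (IsResidualLimitOf.stable E p h1 h2) inferInstance inferInstance hS hF Einf hEinf
  | step F p D D' hD hD' hrest =>
    cases hEinf with
    | stable E p h1 h2 =>
      exact limit_step_eq hS (hyperfocal_le F p) (heq.symm.trans h1) hD.1 hD.2 hD' hEs hidx h2 hrest
        (IsResidualLimitOf.stable E p h1 h2)
    | step E p D₂ D₂' hD₂ hD₂' hrest₂ =>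
      refine limit_step_eq hS (hyperfocal_le F p) heq.symm hD.1 hD.2 hD' hD₂.1
        ⟨fun P φ h => hidx.1 P (hD₂.2.1 P h), heq.ge, fun P hP => ?_⟩ hD₂' hrest hrest₂
      refine (pResidual_autGroup_le hidx (hP.trans (hyperfocal_le E p))).trans (hD₂.2.2.2 P hP)

end Cfsg.Agent.H94
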