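import Cfsg.Agent.H94.BalanceClimb
import Cfsg.Agent.H94.Comp.Main
import Cfsg.Agent.H96.PPowerStep
import Cfsg.Agent.H96.Subnormal
import Cfsg.Agent.H93.LocalSaturated
import Cfsg.Agent.S5150

/-!
E-balance, derived from a normal subsystem of the normalizer system over `N_T(X) X` with hyperfocal subgroup in `T`
whose maps on subgroups of `T` are maps of the layer followed by conjugations by elements of `X`.
-/

set_option autoImplicit false
set_option linter.unusedSectionVars false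

namespace Cfsg.Agent.H94.Balance

open Cfsg Cfsg.FusionSystem
open Cfsg.Agent.H93 (Mor)
open Cfsg.Agent.H24.Meet (exists_coprime_pow)

variable {Ω : Type*} [Group Ω] {S T X U : Subgroup Ω} {F : FusionSystem S} {p : ℕ} [Finite S] [Fact p.Prime]

/-- In the normalizer system of `X`, the product of `X` and the part of a normal subgroup normalizing it is normal. -/
theorem isNormal_inf_sup {Q : Subgroup Ω} (hQ : F.IsNormal Q) (hXS : X ≤ S)
    {N : FusionSystem (normalizerIn S X)} (hN : F.IsNormalizerSystem X N) :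
    N.IsNormal ((Q ⊓ normalizerIn S X) ⊔ X) := by
  have hNS : normalizerIn S X ≤ S := inf_le_left
  have := H96.finite_of_le hNS
  have := H96.finite_of_le hXS
  obtain ⟨R, hR⟩ : ∃ R, R = (Q ⊓ normalizerIn S X) ⊔ X := ⟨_, rfl⟩
  have hRN : R ≤ normalizerIn S X := hR ▸ sup_le inf_le_right (H93.le_normalizerIn hXS)
  rw [← hR]
  refine H96.isNormal_of_mapsTo N hRN fun P φ hφ => ?_
  rw [hN P] at hφ
  obtain ⟨-, hPN, -, ψ, hψ, hψ1, hψ2⟩ := hφ
  obtain ⟨χ, hχ, hχ1, hχ2⟩ := H96.exists_ext_of_normal hQ hψ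
  have hXR : X ≤ R := hR ▸ le_sup_right
  have hle : P ⊔ R ≤ (P ⊔ X) ⊔ Q := sup_le (le_sup_left.trans le_sup_left)
    (hR ▸ sup_le (inf_le_left.trans le_sup_right) (le_sup_right.trans le_sup_left))
  have hDN : P ⊔ R ≤ normalizerIn S X := sup_le hPN hRN
  have hχX : ∀ (x : Ω) (hx : x ∈ X), χ ⟨x, Subgroup.mem_sup_left (Subgroup.mem_sup_right hx)⟩ ∈ X := by
    intro x hx
    refine hψ2.le ⟨⟨x, Subgroup.mem_sup_right hx⟩, Subgroup.mem_subgroupOf.2 hx, ?_⟩
    exact (hχ1 ⟨x, Subgroup.mem_sup_right hx⟩).symm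
  have hval : ∀ w : ↥(P ⊔ R), H96.res χ hle w ∈ normalizerIn S X := by
    intro w
    refine ⟨(F.le_of_mem hχ).2 _, H94.mem_normalizer_of_forall_conj_mem fun z hz => ?_⟩
    obtain ⟨⟨y, hy⟩, hyX, hyz⟩ := hψ2.ge hz
    replace hyX : y ∈ X := Subgroup.mem_subgroupOf.1 hyX
    have hw : (w : Ω) * y * (w : Ω)⁻¹ ∈ X := H93.mem_normalizerIn_conj (hDN w.2) hyX
    have h := hχX _ hw
    rw [show (⟨(w : Ω) * y * (w : Ω)⁻¹, Subgroup.mem_sup_left (Subgroup.mem_sup_right hw)⟩ : ↥((P ⊔ X) ⊔ Q)) =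
      Subgroup.inclusion hle w * ⟨y, Subgroup.mem_sup_left hy⟩ * (Subgroup.inclusion hle w)⁻¹ from rfl,
      map_mul, map_mul, map_inv, show χ ⟨y, Subgroup.mem_sup_left hy⟩ = z from
        (hχ1 ⟨y, hy⟩).trans hyz] at h
    exact h
  have hmem : H96.res χ hle ∈ N.Hom (P ⊔ R) := by
    rw [hN]
    exact H94.mem_normalizerHom hDN (hXR.trans le_sup_right) (H96.res_mem F hχ hle) hval
      fun x hx => hχX x hx
  refine ⟨_, hmem, fun x => ?_, fun r => ?_⟩
  · exact (hχ1 (Subgroup.inclusion le_sup_left x)).trans (hψ1 x)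
  · have hsub : R ≤ (R.comap (H96.res χ hle)).map (P ⊔ R).subtype := by
      conv_lhs => rw [hR]
      refine sup_le (fun q hq => ?_) fun x hx => ?_
      · refine ⟨⟨q, Subgroup.mem_sup_right (hR ▸ Subgroup.mem_sup_left hq)⟩, ?_, rfl⟩
        exact hR.ge (Subgroup.mem_sup_left ⟨hχ2 ⟨q, hq.1⟩, hval _⟩)
      · refine ⟨⟨x, Subgroup.mem_sup_right (hXR hx)⟩, ?_, rfl⟩
        exact hXR (hχX x hx)
    obtain ⟨y, hy, hyr⟩ := hsub r.2
    rw [show Subgroup.inclusion le_sup_right r = y from Subtype.ext hyr.symm]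
    exact hy

/-- An automorphism of order prime to `p` fixing `T` moves elements only inside `C_S(E)`. -/
theorem disp_mem_centralized (hS : IsPGroup p S) (hF : F.IsSaturated p) {E : FusionSystem T}
    (hE : E.IsNormalIn F p) {Y : Subgroup Ω} (hYT : Y ≤ centralizerIn S T)
    (hmax : ∀ Y', Y' ≤ centralizerIn S T → (∀ P, E.Hom P ⊆ F.centralizerHom Y' P) → Y' ≤ Y)
    {W : Subgroup Ω} {g : Ω → Ω} {γ : MulAut W} (hTW : T ≤ W) (hg : Mor F W W g)
    (hge : ∀ y : W, ((γ y : W) : Ω) = g y) (hp : (orderOf γ).Coprime p) (hfix : ∀ t ∈ T, g t = t)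
    (x : W) : (x : Ω)⁻¹ * g x ∈ Y := by
  have hT : F.StronglyClosed T := hE.1.2.2.2.1
  have hWS := hg.le_left
  have hfoc := S5293.result p hS F hF E hE _ rfl (H93.centralizerSystem F T hT.1) fun _ => rfl
  have hdisp : ∀ y : W, (y : Ω)⁻¹ * g y ∈ centralizerIn S T := by
    intro y
    refine H93.mem_centralizerIn.2 ⟨S.mul_mem (S.inv_mem (hWS y.2)) (hWS (hg.map_mem y.2)), fun t ht => ?_⟩
    have h1 : (y : Ω) * t * (y : Ω)⁻¹ ∈ T := H93.StronglyClosed.conj_mem hT (hWS y.2) ht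
    have h2 := hg.map_conj y.2 (hTW ht)
    rw [hfix _ h1, hfix _ ht] at h2
    calc (y : Ω)⁻¹ * g y * t * ((y : Ω)⁻¹ * g y)⁻¹ = (y : Ω)⁻¹ * (g y * t * (g y)⁻¹) * y := by group
      _ = t := by rw [← h2]; group
  have hfY : ∀ z : W, (z : Ω) ∈ centralizerIn S T → (z : Ω)⁻¹ * g z ∈ Y := by
    intro z hz
    obtain ⟨Q₀, hQ₀def⟩ : ∃ Q₀, Q₀ = W ⊓ centralizerIn S T := ⟨_, rfl⟩
    have hQ₀W : Q₀ ≤ W := hQ₀def ▸ inf_le_left
    have hQ₀C : Q₀ ≤ centralizerIn S T := hQ₀def ▸ inf_le_right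
    have hle : Q₀ ⊔ T ≤ W := sup_le hQ₀W hTW
    obtain ⟨R, -, hR⟩ := hg.restrict hle
    obtain ⟨ψ, hψ, -, hψv⟩ := hR
    have hval : ∀ w : Q₀, ψ (Subgroup.inclusion le_sup_left w) ∈ centralizerIn S T := by
      intro w
      rw [hψv]
      show g w ∈ _
      rw [← mul_inv_cancel_left (w : Ω) (g w)]
      exact Subgroup.mul_mem _ (hQ₀C w.2) (hdisp ⟨w, hQ₀W w.2⟩)
    refine (hfoc.trans (sSup_le fun X hX => hmax X hX.1 hX.2)) (Subgroup.subset_closure
      ⟨Q₀, ψ.comp (Subgroup.inclusion le_sup_left), ⟨z, hQ₀def ▸ ⟨z.2, hz⟩⟩,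
        ⟨H96.res_mem F hψ le_sup_left, hQ₀C, hval, ψ, hψ, fun _ => rfl, fun u => (hψv _).trans (hfix u u.2)⟩, ?_⟩)
    show _ = (z : Ω)⁻¹ * ψ _
    rw [hψv]
    rfl
  obtain ⟨y, hydef⟩ : ∃ y, y = x⁻¹ * γ x := ⟨_, rfl⟩
  have hyC : (y : Ω) ∈ centralizerIn S T := by
    rw [hydef, Subgroup.coe_mul, Subgroup.coe_inv, hge]
    exact hdisp x
  have hit : ∀ n : ℕ, ∃ r ∈ Y, (((γ ^ n) x : W) : Ω) = x * (y : Ω) ^ n * r := by
    intro n
    induction n with
    | zero => exact ⟨1, one_mem _, by simp⟩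
    | succ n ih =>
      obtain ⟨r, hr, hn⟩ := ih
      obtain ⟨q, hq⟩ : ∃ q, q = x⁻¹ * (γ ^ n) x := ⟨_, rfl⟩
      have hqv : (q : Ω) = (y : Ω) ^ n * r := by
        rw [hq, Subgroup.coe_mul, Subgroup.coe_inv, hn]
        group
      have hqC : (q : Ω) ∈ centralizerIn S T := hqv ▸ Subgroup.mul_mem _ (Subgroup.pow_mem _ hyC n) (hYT hr)
      refine ⟨r * ((q : Ω)⁻¹ * g q), Y.mul_mem hr (hfY q hqC), ?_⟩
      rw [pow_succ' γ, MulAut.mul_apply, show (γ ^ n) x = x * q by rw [hq, mul_inv_cancel_left], map_mul,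
        show γ x = x * y by rw [hydef, mul_inv_cancel_left], Subgroup.coe_mul, Subgroup.coe_mul, hge,
        pow_succ' (y : Ω)]
      conv_lhs => rw [show g q = q * ((q : Ω)⁻¹ * g q) from (mul_inv_cancel_left _ _).symm, hqv]
      rw [hqv]
      group
  obtain ⟨r, hr, hm⟩ := hit (orderOf γ)
  rw [pow_orderOf_eq_one] at hm
  have h1 : (y : Ω) ^ orderOf γ ∈ Y := by
    have h2 : (y : Ω) ^ orderOf γ * r = 1 := by
      apply mul_left_cancel (a := (x : Ω))
      rw [mul_one, ← mul_assoc]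
      exact hm.symm
    rw [eq_inv_of_mul_eq_one_left h2]
    exact Y.inv_mem hr
  obtain ⟨k, hk⟩ := hS ⟨(y : Ω), hWS y.2⟩
  obtain ⟨s, hs⟩ : ∃ s : ℕ, ((y : Ω) ^ orderOf γ) ^ s = y := exists_pow_eq_self_of_coprime
    (Nat.Coprime.coprime_dvd_right
      (orderOf_dvd_of_pow_eq_one (show (y : Ω) ^ p ^ k = 1 from congrArg Subtype.val hk))
      (Nat.Coprime.pow_right k hp))
  have h3 := Subgroup.pow_mem _ h1 s
  rw [hs, hydef, Subgroup.coe_mul, Subgroup.coe_inv, hge] at h3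
  exact h3

/-- A system centralizing `N_K(X) X` has its hyperfocal subgroup where the automorphisms fixing `K` move. -/
theorem hyperfocal_le_of_centralizes (hS : IsPGroup p S) (hF : F.IsSaturated p) {K Z : Subgroup Ω}
    (hK : F.StronglyClosed K) (hX : F.IsFullyNormalized X) (hZ : F.StronglyClosed Z) {C : FusionSystem U}
    (hUN : U ≤ normalizerIn S X)
    (hC : ∀ P, C.Hom P ⊆ F.centralizerHom ((K ⊓ normalizerIn S X) ⊔ X) P)
    (hdisp : ∀ (W : Subgroup Ω) (g : Ω → Ω) (γ : MulAut W), K ≤ W → Mor F W W g →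
      (∀ y : W, ((γ y : W) : Ω) = g y) → (orderOf γ).Coprime p → (∀ k ∈ K, g k = k) →
      ∀ y : W, (y : Ω)⁻¹ * g y ∈ Z) : C.hyperfocalSubgroup p ≤ Z := by
  have key : ∀ P, P ≤ U → ∀ a : MulAut P, a ∈ C.autGroup P → (orderOf a).Coprime p →
      ∀ x : P, (x : Ω)⁻¹ * ((a x : P) : Ω) ∈ Z := by
    intro P hP a ha hp x
    obtain ⟨R, hRdef⟩ : ∃ R, R = (K ⊓ normalizerIn S X) ⊔ X := ⟨_, rfl⟩
    have hCR := hC P ((H96.mem_autGroup C hP).1 ha)
    rw [← hRdef] at hCR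
    obtain ⟨-, -, -, ψ, hψ, hψ1, hψ2⟩ := hCR
    have hRN : R ≤ normalizerIn S X := hRdef ▸ sup_le inf_le_right (H93.le_normalizerIn hX.1)
    have hAN : P ⊔ R ≤ normalizerIn S X := sup_le (hP.trans hUN) hRN
    have hAS : P ⊔ R ≤ S := hAN.trans inf_le_left
    have := H96.finite_of_le hAS
    have hψP : ∀ y : P, ψ (Subgroup.inclusion le_sup_left y) = ((a y : P) : Ω) := hψ1
    have hψA : ∀ y, ψ y ∈ P ⊔ R := H93.apply_mem_sup
      (fun y => Subgroup.mem_sup_left (by rw [hψP]; exact (a y).2))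
      (fun r => Subgroup.mem_sup_right (by rw [hψ2]; exact r.2))
    obtain ⟨b, hb, hbe⟩ := H96.exists_autGroup_of_mem F hψ hψA
    have hbP : ∀ y : P, b (Subgroup.inclusion le_sup_left y) = Subgroup.inclusion le_sup_left (a y) :=
      fun y => Subtype.ext ((hbe _).trans (hψP y))
    have : Finite (MulAut ↥(P ⊔ R)) :=
      Finite.of_injective (fun e : MulAut ↥(P ⊔ R) => (e : _ → _)) DFunLike.coe_injective
    obtain ⟨n, hn, hbn⟩ := exists_coprime_pow (p := p) _ hbP hp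
    have hbR : ∀ y : ↥(P ⊔ R), (y : Ω) ∈ R → (b ^ n) y = y := by
      intro y hy
      have hle : Subgroup.zpowers b ≤ MulAction.stabilizer (MulAut ↥(P ⊔ R)) y := by
        rw [Subgroup.zpowers_le]
        refine Subtype.ext ((hbe y).trans ?_)
        exact hψ2 ⟨y, hy⟩
      exact hle (Subgroup.npow_mem_zpowers b n)
    obtain ⟨W, hKW, A', π, g, γ, hWS, hπ, hA'W, hg, hγ, hγp, hgK, hga⟩ :=
      exists_fix hS hF hK hX (A := P ⊔ R) ((le_sup_right.trans hRdef.ge : X ≤ R).trans le_sup_right)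
        ((le_sup_left.trans hRdef.ge : K ⊓ normalizerIn S X ≤ R).trans le_sup_right) hAN (pow_mem hb n) hn
        (fun y hy => hbR y (hRdef.ge (Subgroup.mem_sup_right hy)))
        (fun y hy => hbR y (hRdef.ge (Subgroup.mem_sup_left hy)))
    have hxA : (x : Ω) ∈ P ⊔ R := Subgroup.mem_sup_left x.2
    have haA : ((a x : P) : Ω) ∈ P ⊔ R := Subgroup.mem_sup_left (a x).2
    have h1 := hdisp W g γ hKW hg hγ hγp (fun k hk => hgK k (hKW hk) hk) ⟨π x, hA'W (hπ.map_mem hxA)⟩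
    change (π x)⁻¹ * g (π x) ∈ Z at h1
    rw [show g (π x) = π ((a x : P) : Ω) from (hga ⟨x, hxA⟩).trans
      (congrArg π (congrArg Subtype.val (hbn x)))] at h1
    rw [← hπ.map_inv hxA, ← hπ.map_mul (Subgroup.inv_mem _ hxA) haA] at h1
    have hm : (x : Ω)⁻¹ * ((a x : P) : Ω) ∈ P ⊔ R := Subgroup.mul_mem _ (Subgroup.inv_mem _ hxA) haA
    obtain ⟨πi, hπi, hπi1, -⟩ := hπ.exists_inv
    obtain ⟨θ, hθ, -, hθv⟩ := id hπi
    have h2 := H93.StronglyClosed.apply_mem hZ hθ ⟨_, hπ.map_mem hm⟩ h1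
    rwa [hθv, hπi1 _ hm] at h2
  refine (Subgroup.closure_le _).2 ?_
  rintro _ ⟨P, α, x, hP, hα, rfl⟩
  suffices h : ∀ α ∈ pResidual p (C.autGroup P), ∀ x : P, (x : Ω)⁻¹ * (((α : MulAut P) x : P) : Ω) ∈ Z from
    h α hα x
  intro α hα
  induction hα using Subgroup.closure_induction with
  | mem a ha => exact key P hP a a.2 (by rw [Subgroup.orderOf_coe]; exact ha)
  | one => intro x; simp
  | mul a b _ _ iha ihb =>
    intro x
    have h := Z.mul_mem (ihb x) (iha ((b : MulAut P) x))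
    rw [mul_assoc, mul_inv_cancel_left] at h
    exact h
  | inv a _ ih =>
    intro x
    have h := Z.inv_mem (ih ((a : MulAut P)⁻¹ x))
    rw [mul_inv_rev, inv_inv, MulAut.apply_inv_self] at h
    exact h

/-- The centralizer of a normal subgroup is strongly closed. -/
theorem stronglyClosed_centralizerIn_of_normal {Q : Subgroup Ω} (hQ : F.IsNormal Q) :
    F.StronglyClosed (centralizerIn S Q) := by
  refine ⟨inf_le_left, fun R hR φ hφ x => H93.mem_centralizerIn.2 ⟨(F.le_of_mem hφ).2 x, fun z hz => ?_⟩⟩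
  obtain ⟨ψ, hψ, h1, h2⟩ := hQ.2 R φ hφ
  obtain ⟨q, hq, rfl⟩ := h2.ge hz
  rw [← h1 x, ← map_inv, ← map_mul, ← map_mul]
  refine congrArg ψ (Subtype.ext ?_)
  exact (H93.mem_centralizerIn.1 (hR x.2)).2 _ (Subgroup.mem_subgroupOf.1 hq)

/-- The components of the normalizer system lie in `T`. -/
theorem component_le (hS : IsPGroup p S) (hF : F.IsSaturated p) (hX : F.IsFullyNormalized X)
    {N : FusionSystem (normalizerIn S X)} (hN : F.IsNormalizerSystem X N) {E : FusionSystem T}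
    (hE : E.IsLayerOf F p) {D : FusionSystem ((T ⊓ normalizerIn S X) ⊔ X)} (hDN : D.IsNormalIn N p)
    (hhyp : D.hyperfocalSubgroup p ≤ T) {C : FusionSystem U} (hC : C.IsComponentIn N p) : U ≤ T := by
  have hNS : normalizerIn S X ≤ S := inf_le_left
  have := H96.finite_of_le hNS
  have hSN : IsPGroup p ↥(normalizerIn S X) := hS.to_le hNS
  have hNsat : N.IsSaturated p := H93.IsNormalizerSystem.isSaturated hS hF hX hN
  have hNF : N.IsSubsystemOf F := fun P φ hφ => by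
    rw [hN P] at hφ
    exact hφ.1
  have hUN : U ≤ normalizerIn S X := H94.subnormal_le hC.1
  have hUS : U ≤ S := hUN.trans hNS
  rcases Comp.component_dichotomy hSN hNsat hC hDN with ⟨hCD, -⟩ | ⟨-, hCR, -⟩
  · rw [← hC.2.2.1]
    have hUR : U ≤ (T ⊓ normalizerIn S X) ⊔ X := (D.le_of_mem (hCD U (H96.subtype_mem C le_rfl))).1
    exact (Comp.hyperfocal_mono hUR hCD).trans hhyp
  exfalso
  obtain ⟨Y, hYT, hYE, hmax, hYc, M, hM, -⟩ := Comp.exists_centralized hS hF hE.1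
  have hQ := H96.isNormal_core F
  have hUY : U ≤ Y := by
    rw [← hC.2.2.1]
    exact hyperfocal_le_of_centralizes hS hF hE.1.1.2.2.2.1 hX hYc hUN
      (fun P φ hφ => Comp.centralizerHom_sub hNS hNF (hCR P hφ))
      (fun W g γ hKW hg hγ hγp hfix y => disp_mem_centralized hS hF hE.1 hYT hmax hKW hg hγ hγp hfix y)
  have hUQ : U ≤ centralizerIn S F.core := by
    rw [← hC.2.2.1]
    refine hyperfocal_le_of_centralizes hS hF (H93.IsNormal.stronglyClosed hQ) hX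
      (stronglyClosed_centralizerIn_of_normal hQ) hUN
      (fun P φ hφ => Comp.centralizerHom_sub hNS hNF
        (H94.component_le_centralizer hSN hC (isNormal_inf_sup hQ hX.1 hN) P hφ))
      fun W g γ hKW hg _ _ hfix y => H93.mem_centralizerIn.2 ⟨?_, fun q hq => ?_⟩
    · exact S.mul_mem (S.inv_mem (hg.le_left y.2)) (hg.le_left (hg.map_mem y.2))
    · have h1 : (y : Ω) * q * (y : Ω)⁻¹ ∈ F.core :=
        H93.StronglyClosed.conj_mem (H93.IsNormal.stronglyClosed hQ) (hg.le_left y.2) hq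
      have h2 := hg.map_conj y.2 (hKW hq)
      rw [hfix _ h1, hfix _ hq] at h2
      calc (y : Ω)⁻¹ * g y * q * ((y : Ω)⁻¹ * g y)⁻¹ = (y : Ω)⁻¹ * (g y * q * (g y)⁻¹) * y := by group
        _ = q := by rw [← h2]; group
  have hYS : Y ≤ S := hYT.trans inf_le_left
  have := H96.finite_of_le hYS
  have hTS : T ≤ S := hE.1.1.2.2.2.1.1
  have hMc : M.IsConstrained p := by
    by_contra hnc
    obtain ⟨W, K, hK, hKq⟩ := H94.hasComp_of_not_constrained (hS.to_le hYS) hM.1.1 hnc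
    have hKY : W ≤ Y := H94.subnormal_le hK
    have hKE : K.IsSubsystemOf E := hE.2.1 W K ⟨IsSubnormalIn.step hK hM, hKq⟩
    have hKT : W ≤ T := (E.le_of_mem (hKE W (H96.subtype_mem K le_rfl))).1
    exact Comp.not_le_centralizer hS hKq (hKT.trans hTS) hKT ((hKY.trans hYT).trans inf_le_right)
  have hUcore : U ≤ F.core := fun u hu => H94.core_le_core hS hM.1
    ((H96.isCentric_core hMc).2 M.core (H93.isConj_refl M (H96.isNormal_core M).1)
      ⟨hUY hu, Subgroup.centralizer_le (H94.core_le_core hS hM.1) (hUQ hu).2⟩)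
  exact Comp.not_le_centralizer hS hC.2 hUS hUcore (hUQ.trans inf_le_right)

/-- E-balance from a normal subsystem over `N_T(X) X`. -/
theorem isSubsystemOf_of_normal_over (hS : IsPGroup p S) (hF : F.IsSaturated p) (hX : F.IsFullyNormalized X)
    {N : FusionSystem (normalizerIn S X)} (hN : F.IsNormalizerSystem X N) {V : Subgroup Ω} {EN : FusionSystem V}
    (hEN : EN.IsLayerOf N p) {E : FusionSystem T} (hE : E.IsLayerOf F p)
    (hD : ∃ D : FusionSystem ((T ⊓ normalizerIn S X) ⊔ X), D.IsNormalIn N p ∧ D.hyperfocalSubgroup p ≤ T ∧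
      ∀ (P : Subgroup Ω) (φ : P →* Ω), P ≤ T → φ ∈ D.Hom P →
        ∃ x ∈ X, ∃ e ∈ E.Hom P, ∀ y : P, φ y = x * e y * x⁻¹) : EN.IsSubsystemOf E := by
  obtain ⟨D, hDN, hhyp, hdec⟩ := hD
  have hNS : normalizerIn S X ≤ S := inf_le_left
  have := H96.finite_of_le hNS
  have hSN : IsPGroup p ↥(normalizerIn S X) := hS.to_le hNS
  have hNsat : N.IsSaturated p := H93.IsNormalizerSystem.isSaturated hS hF hX hN
  have hNF : N.IsSubsystemOf F := fun P φ hφ => by
    rw [hN P] at hφ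
    exact hφ.1
  have hT := hE.1.1.2.2.2.1
  have hXN : X ≤ normalizerIn S X := H93.le_normalizerIn hX.1
  have hRN : (T ⊓ normalizerIn S X) ⊔ X ≤ normalizerIn S X := sup_le inf_le_right hXN
  have := H96.finite_of_le (hRN.trans hNS)
  have hRp : IsPGroup p ↥((T ⊓ normalizerIn S X) ⊔ X) := hS.to_le (hRN.trans hNS)
  have hT0R : T ⊓ normalizerIn S X ≤ (T ⊓ normalizerIn S X) ⊔ X := le_sup_left
  have hT0S : T ⊓ normalizerIn S X ≤ S := inf_le_right.trans hNS
  have := H96.finite_of_le hT0S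
  have hT0p : IsPGroup p ↥(T ⊓ normalizerIn S X) := hS.to_le hT0S
  have hyp₀ : D.hyperfocalSubgroup p ≤ T ⊓ normalizerIn S X :=
    le_inf hhyp ((H94.hyperfocal_le D p).trans hRN)
  obtain ⟨D₀, hD₀s, hD₀i⟩ := H94.exists_pPowerIndex hRp hDN.1.1 hT0R hyp₀
  have hD₀n : D₀.IsNormalIn D p := H94.pPowerIndex_isNormalIn hRp hDN.1.1 hT0R
    (fun s hs t ht => ⟨H93.StronglyClosed.conj_mem hT (hNS (hRN hs)) ht.1,
      Subgroup.mul_mem _ (Subgroup.mul_mem _ (hRN hs) ht.2) (Subgroup.inv_mem _ (hRN hs))⟩) hD₀s hD₀i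
  have hst := H96.autStable_pPowerIndex hSN hDN.1.2.2 hT0R hD₀s hD₀i fun a ha x hx => by
    obtain ⟨ψ, hψ, -, hψv⟩ := ha
    have hv := hψv ⟨x, hT0R hx⟩
    rw [← hv]
    exact ⟨H93.StronglyClosed.apply_mem hT (hNF _ hψ) ⟨x, hT0R hx⟩ hx.1, (N.le_of_mem hψ).2 _⟩
  have hD₀w : D₀.IsWeaklyNormalIn N p :=
    ⟨hD₀s, hNsat, H96.invariant_trans hSN hNsat hDN.1.2.2 hD₀n.1.2.2 hst⟩
  obtain ⟨L, hL, -⟩ := H94.exists_pPrimeResidual hT0p hD₀s
  have hLn : L.IsNormalIn N p := H94.pPrimeResidual_isNormalIn hSN hD₀w hL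
  have hLC : ∀ (U : Subgroup Ω) (C : FusionSystem U), C.IsComponentIn N p → C.IsSubsystemOf L := fun U C hC =>
    (Comp.component_le_of_le hSN hNsat hC hLn
      (le_inf (component_le hS hF hX hN hE hDN hhyp hC) (H94.subnormal_le hC.1))).1
  have hXcore : X ≤ N.core := le_sup_right.trans
    (le_sSup (α := Subgroup Ω) (isNormal_inf_sup (H96.isNormal_core F) hX.1 hN))
  intro P φ hφ
  have hφL : φ ∈ L.Hom P := hEN.2.2 _ L hLn hLC P hφ
  obtain ⟨-, -, hφc, -⟩ := S5150.result p hSN N hNsat EN hEN P hφ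
  obtain ⟨x, hx, e, he, hxe⟩ := hdec P φ ((L.le_of_mem hφL).1.trans inf_le_left) (hD₀i.1 P (hL.2.1.1 P hφL))
  refine H96.mem_congr E he fun y => ?_
  have h := (H93.mem_centralizerIn.1 (hφc y)).2 x (hXcore hx)
  have h2 : x * φ y = φ y * x := (mul_inv_eq_iff_eq_mul.1 h).symm
  apply mul_left_cancel (a := x)
  rw [h2, hxe y]
  group

end Cfsg.Agent.H94.Balance
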