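import Cfsg.Agent.H96.CentralizeNormal
import Cfsg.Agent.H94.Invariance

/-! Automisers of a centric subgroup of a weakly normal subsystem lift trivially modulo the subgroup to any part of
its centralizer, up to automorphisms extending to larger subgroups. (The argument is the one of
`H96.exists_liftable_subgroup`, with the larger range of centralizing subgroups.) -/

set_option autoImplicit false

namespace Cfsg.Agent.H94

open Cfsg Cfsg.FusionSystem Cfsg.Agent.H96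

variable {Ω : Type*} [Group Ω] {S : Subgroup Ω} [Finite S] {p : ℕ} [Fact p.Prime] {F : FusionSystem S}

/-- The automorphism lifts to `R ⊔ P` trivially modulo `R`. -/
def CongLift (F : FusionSystem S) (R P : Subgroup Ω) (γ : MulAut R) : Prop :=
  ∃ b ∈ F.autGroup (R ⊔ P), ModTrivial R b ∧
    ∀ x : R, ((b (Subgroup.inclusion le_sup_left x) : ↥(R ⊔ P)) : Ω) = (γ x : R)

/-- A normal subgroup of the automiser, containing the part induced by `T`, all of whose elements lift. -/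
theorem exists_congLift_subgroup (hS : IsPGroup p S) (hF : F.IsSaturated p) {T : Subgroup Ω}
    {E : FusionSystem T} (hE : E.IsWeaklyNormalIn F p) {R : Subgroup Ω} (hR : R ≤ T)
    (hcT : ∀ R' : Subgroup Ω, E.IsConj R R' → centralizerIn T R' ≤ R') :
    ∃ L : Subgroup (E.autGroup R), L.Normal ∧ (autInducedBy T R).subgroupOf (E.autGroup R) ≤ L ∧
      ∀ a ∈ L, ∀ P : Subgroup Ω, P ≤ centralizerIn S R → CongLift F R P (a : MulAut R) := by
  obtain ⟨-, -, hinv⟩ := hE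
  have hTsc := hinv.2.1
  have hTS := hTsc.1
  have hRS := hR.trans hTS
  have hsi := H94.stronglyInvariant_of_invariant hinv
  obtain ⟨R₁, hRR₁, hR₁⟩ := H94.exists_fullyNormalized (F := F) hRS
  obtain ⟨χ, hχ, hχv, hχR⟩ := H93.exists_map_to_fullyNormalized hS hF hR₁ hRR₁
  have hRN : R ≤ normalizerIn S R := le_inf hRS Subgroup.le_normalizer
  have hR₁T : R₁ ≤ T := by
    rw [← hχR]
    intro y hy
    obtain ⟨x, hx, rfl⟩ := H93.mem_imgIn.1 hy
    exact hTsc.2 R hR (res χ hRN) (res_mem F hχ hRN) ⟨x, hx⟩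
  have hχmem : ∀ x : R, χ (Subgroup.inclusion hRN x) ∈ R₁ := fun x =>
    hχR ▸ H93.mem_imgIn.2 ⟨_, x.2, rfl⟩
  have hχsur : ∀ y ∈ R₁, ∃ x : R, χ (Subgroup.inclusion hRN x) = y := fun y hy => by
    rw [← hχR] at hy
    obtain ⟨x, hx, rfl⟩ := H93.mem_imgIn.1 hy
    exact ⟨⟨x, hx⟩, rfl⟩
  -- `C_T(R₁) ≤ R₁`
  have hc₁ : centralizerIn T R₁ ≤ R₁ := by
    obtain ⟨α, hα, φ₀, hφ₀, hφe⟩ := hinv.2.2.2 R hR (res χ hRN) (res_mem F hχ hRN)
    intro v hv
    set u : T := α⁻¹ ⟨v, hv.1⟩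
    have hu : (u : Ω) ∈ φ₀.range := by
      refine hcT φ₀.range ⟨φ₀, hφ₀, rfl⟩ ⟨u.2, ?_⟩
      rintro _ ⟨x, rfl⟩
      have h1 := hv.2 _ (hχmem x)
      rw [show χ (Subgroup.inclusion hRN x) = ((α ⟨φ₀ x, (E.le_of_mem hφ₀).2 x⟩ : T) : Ω) from hφe x _] at h1
      have h2 : α ⟨φ₀ x, (E.le_of_mem hφ₀).2 x⟩ * ⟨v, hv.1⟩ = ⟨v, hv.1⟩ * α ⟨φ₀ x, (E.le_of_mem hφ₀).2 x⟩ :=
        Subtype.ext h1
      have h3 := congrArg (⇑α⁻¹) h2
      rw [map_mul, map_mul, MulAut.inv_apply_self] at h3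
      exact congrArg Subtype.val h3
    obtain ⟨x, hx⟩ := hu
    have e : (⟨v, hv.1⟩ : T) = α ⟨φ₀ x, (E.le_of_mem hφ₀).2 x⟩ := by
      rw [show (⟨φ₀ x, (E.le_of_mem hφ₀).2 x⟩ : T) = u from Subtype.ext hx, MulAut.apply_inv_self]
    have hvx : v = χ (Subgroup.inclusion hRN x) := (congrArg Subtype.val e).trans (hφe x _).symm
    rw [hvx]
    exact hχmem x
  set C₁ := centralizerIn S R₁
  have hWS : R₁ ⊔ C₁ ≤ S := sup_le hR₁.1 (H93.centralizerIn_le _ _)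
  have hC₁ : C₁ ≤ Subgroup.centralizer (R₁ : Set Ω) := inf_le_right
  have := finite_of_le hRS
  have := finite_of_le hWS
  let Up : MulAut R → MulAut ↥(R₁ ⊔ C₁) → Prop := fun a b =>
    ∀ x : R, ((b ⟨χ (Subgroup.inclusion hRN x), le_sup_left (b := C₁) (hχmem x)⟩ : ↥(R₁ ⊔ C₁)) : Ω) =
      χ (Subgroup.inclusion hRN (a x))
  let L : Subgroup (E.autGroup R) :=
    { carrier := {a | ∃ b ∈ F.autGroup (R₁ ⊔ C₁), ModTrivial R₁ b ∧ Up (a : MulAut R) b}
      one_mem' := ⟨1, one_mem _, modTrivial_one, fun x => rfl⟩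
      mul_mem' := by
        rintro a c ⟨b, hb, hbm, hbu⟩ ⟨d, hd, hdm, hdu⟩
        refine ⟨b * d, mul_mem hb hd, modTrivial_mul hbm hdm, fun x => ?_⟩
        rw [MulAut.mul_apply]
        refine Eq.trans ?_ (hbu ((c : MulAut R) x))
        exact congrArg (fun w => ((b w : ↥(R₁ ⊔ C₁)) : Ω)) (Subtype.ext (hdu x))
      inv_mem' := by
        rintro a ⟨b, hb, hbm, hbu⟩
        refine ⟨b⁻¹, inv_mem hb, modTrivial_inv hbm, fun x => ?_⟩
        have h := hbu ((a : MulAut R)⁻¹ x)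
        rw [MulAut.apply_inv_self] at h
        show ((b⁻¹ _ : ↥(R₁ ⊔ C₁)) : Ω) = _
        rw [show (⟨χ (Subgroup.inclusion hRN x), le_sup_left (b := C₁) (hχmem x)⟩ : ↥(R₁ ⊔ C₁)) =
          b ⟨χ (Subgroup.inclusion hRN ((a : MulAut R)⁻¹ x)), le_sup_left (b := C₁) (hχmem _)⟩ from Subtype.ext h.symm,
          MulAut.inv_apply_self]
        rfl }
  refine ⟨L, ⟨?_⟩, ?_, ?_⟩
  · rintro l ⟨b, hb, hbm, hbu⟩ a
    have haF : (a : MulAut R) ∈ F.autGroup R :=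
      (mem_autGroup F hRS).2 (hinv.1 R ((mem_autGroup E hR).1 a.2))
    obtain ⟨i, hi, hir, hie⟩ := exists_inv F (res_mem F hχ hRN) (Q := R₁) (by
      rw [← hχR, H93.imgIn_eq_range_restrict (hR := hRN)]; rfl)
    obtain ⟨c, hc, hce⟩ := exists_comp F hi ((mem_autGroup F hRS).1 haF) fun y => hir.le ⟨y, rfl⟩
    obtain ⟨d, hd, hde⟩ := exists_comp F hc (res_mem F hχ hRN) fun y => hce y ▸ ((a : MulAut R) _).2
    have hdr : d.range = R₁ := range_eq_of_forall_mem F hd fun y => (hde y).symm ▸ hχmem ⟨_, _⟩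
    have hdval : ∀ (x : R) (h : χ (Subgroup.inclusion hRN x) ∈ R₁),
        d ⟨χ (Subgroup.inclusion hRN x), h⟩ = χ (Subgroup.inclusion hRN ((a : MulAut R) x)) := fun x h => by
      rw [hde]
      show χ _ = _
      refine congrArg χ (Subtype.ext ?_)
      refine (hce ⟨_, h⟩).trans ?_
      exact congrArg (fun w : R => (((a : MulAut R) w : R) : Ω)) (Subtype.ext (hie x h))
    obtain ⟨e, he, hee⟩ := (H93.IsFullyNormalized.isReceptive hS hF hR₁).2 R₁ d hd hdr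
    have hext : R₁ ⊔ C₁ ≤ extender S R₁ d := by
      refine sup_le (fun g hg => mem_extender.2 ⟨hR₁.1 hg, Subgroup.le_normalizer hg, d ⟨g, hg⟩,
        (F.le_of_mem hd).2 _, fun x hx => ?_⟩) (H93.centralizerIn_le_extender S R₁ d)
      rw [← map_inv, ← map_mul, ← map_mul]
      exact congrArg d (Subtype.ext rfl)
    have hem : ∀ w : ↥(R₁ ⊔ C₁), res e hext w ∈ R₁ ⊔ C₁ := by
      have hle : R₁ ⊔ C₁ ≤ ((R₁ ⊔ C₁).comap (res e hext)).map (R₁ ⊔ C₁).subtype := by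
        refine sup_le (fun g hg => ⟨⟨g, le_sup_left (b := C₁) hg⟩, ?_, rfl⟩)
          (fun g hg => ⟨⟨g, le_sup_right (a := R₁) hg⟩, Subgroup.mem_sup_right ⟨(F.le_of_mem he).2 _, ?_⟩, rfl⟩)
        · show res e hext _ ∈ R₁ ⊔ C₁
          rw [res_apply]
          have := hee g hg (hext (le_sup_left (b := C₁) hg))
          exact this ▸ Subgroup.mem_sup_left (hdr.le ⟨_, rfl⟩)
        · intro r hr
          obtain ⟨x, hx⟩ := hdr.ge hr
          have h1 : e ⟨x, hext (le_sup_left (b := C₁) x.2)⟩ = r := (hee x x.2 _).trans hx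
          rw [res_apply, ← h1, ← map_mul, ← map_mul]
          exact congrArg e (Subtype.ext (hg.2 x x.2))
      intro w
      obtain ⟨w', hw', ew⟩ := hle w.2
      rw [show w = w' from Subtype.ext ew.symm]
      exact hw'
    obtain ⟨ã, hã, hãe⟩ := exists_autGroup_of_mem F (res_mem F he hext) hem
    have hãR : ∀ x : R, ((ã ⟨χ (Subgroup.inclusion hRN x), le_sup_left (b := C₁) (hχmem x)⟩ : ↥(R₁ ⊔ C₁)) : Ω) =
        χ (Subgroup.inclusion hRN ((a : MulAut R) x)) := fun x =>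
      (hãe _).trans ((hee _ (hχmem x) _).trans (hdval x _))
    have hãin : ∀ w : ↥(R₁ ⊔ C₁), (w : Ω) ∈ R₁ → ((ã w : ↥(R₁ ⊔ C₁)) : Ω) ∈ R₁ := fun w hw => by
      rw [hãe, res_apply]
      exact (hee w hw _).symm ▸ hdr.le ⟨_, rfl⟩
    refine ⟨ã * b * ã⁻¹, mul_mem (mul_mem hã hb) (inv_mem hã), fun w => ?_, fun x => ?_⟩
    · have h1 : ((ã (((ã⁻¹ w))⁻¹ * b (ã⁻¹ w)) : ↥(R₁ ⊔ C₁)) : Ω) ∈ R₁ := hãin _ (hbm (ã⁻¹ w))
      rw [map_mul, map_inv, MulAut.apply_inv_self] at h1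
      exact h1
    · show ((ã (b (ã⁻¹ _)) : ↥(R₁ ⊔ C₁)) : Ω) = _
      have e1 : ã⁻¹ ⟨χ (Subgroup.inclusion hRN x), le_sup_left (b := C₁) (hχmem x)⟩ =
          ⟨χ (Subgroup.inclusion hRN ((a : MulAut R)⁻¹ x)), le_sup_left (b := C₁) (hχmem _)⟩ := by
        apply ã.injective
        rw [MulAut.apply_inv_self]
        exact Subtype.ext ((hãR _).trans (by rw [MulAut.apply_inv_self])).symm
      rw [e1, show b ⟨χ (Subgroup.inclusion hRN ((a : MulAut R)⁻¹ x)), le_sup_left (b := C₁) (hχmem _)⟩ =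
        ⟨χ (Subgroup.inclusion hRN ((l : MulAut R) ((a : MulAut R)⁻¹ x))), le_sup_left (b := C₁) (hχmem _)⟩ from
          Subtype.ext (hbu _), hãR]
      rfl
  · intro a ha
    obtain ⟨t, ht, hte⟩ := mem_autInducedBy.1 (Subgroup.mem_subgroupOf.1 ha)
    have htN : t ∈ normalizerIn S R := ⟨hTS ht, by
      show t ∈ Subgroup.normalizer (R : Set Ω)
      rw [Subgroup.mem_normalizer_iff]
      intro y
      refine ⟨fun hy => hte ⟨y, hy⟩ ▸ ((a : MulAut R) ⟨y, hy⟩).2, fun hy => ?_⟩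
      have h1 := hte ((a : MulAut R)⁻¹ ⟨_, hy⟩)
      rw [MulAut.apply_inv_self] at h1
      rw [show y = (((a : MulAut R)⁻¹ ⟨_, hy⟩ : R) : Ω) from mul_left_cancel (mul_right_cancel h1)]
      exact SetLike.coe_mem _⟩
    set t₁ := χ ⟨t, htN⟩
    have ht₁T : t₁ ∈ T := hTsc.2 (normalizerIn S R ⊓ T) inf_le_right _
      (res_mem F hχ inf_le_left) ⟨t, htN, ht⟩
    have ht₁N := hχv ⟨t, htN⟩
    have hmv : ∀ w : ↥(R₁ ⊔ C₁), conjHom (R₁ ⊔ C₁) t₁ w ∈ R₁ ⊔ C₁ := by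
      have hn : R₁ ⊔ C₁ ≤ (R₁ ⊔ C₁).comap (MulAut.conj t₁).toMonoidHom := by
        refine sup_le (fun g hg => Subgroup.mem_sup_left ((Subgroup.mem_normalizer_iff.1 ht₁N.2 g).1 hg))
          (fun g hg => Subgroup.mem_sup_right (H93.mem_centralizerIn.2
            ⟨S.mul_mem (S.mul_mem ht₁N.1 hg.1) (S.inv_mem ht₁N.1), fun r hr => ?_⟩))
        have hr' := (Subgroup.mem_normalizer_iff.1 (Subgroup.inv_mem _ ht₁N.2) r).1 hr
        have h1 := (H93.mem_centralizerIn.1 hg).2 _ hr'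
        rw [inv_inv] at h1
        show t₁ * g * t₁⁻¹ * r * (t₁ * g * t₁⁻¹)⁻¹ = r
        calc t₁ * g * t₁⁻¹ * r * (t₁ * g * t₁⁻¹)⁻¹ = t₁ * (g * (t₁⁻¹ * r * t₁) * g⁻¹) * t₁⁻¹ := by group
          _ = t₁ * (t₁⁻¹ * r * t₁) * t₁⁻¹ := by rw [h1]
          _ = r := by group
      exact fun w => hn w.2
    obtain ⟨b, hb, hbe⟩ := exists_autGroup_of_mem F (F.conj_mem hWS ht₁N.1) hmv
    refine ⟨b, hb, modTrivial_of_sup hC₁ (fun x => ?_) (fun x => ?_), fun x => ?_⟩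
    · rw [hbe]
      exact (Subgroup.mem_normalizer_iff.1 ht₁N.2 x).1 x.2
    · rw [hbe]
      show (x : Ω)⁻¹ * (t₁ * x * t₁⁻¹) ∈ R₁
      refine hc₁ ⟨?_, fun r hr => ?_⟩
      · have := T.mul_mem ((Subgroup.mem_normalizer_iff.1
          (H93.StronglyClosed.le_normalizer hTsc (S.inv_mem x.2.1)) t₁).1 ht₁T) (T.inv_mem ht₁T)
        rw [inv_inv] at this
        simpa [mul_assoc] using this
      · have h1 : r * (x : Ω) = x * r := x.2.2 r hr
        have hr' := (Subgroup.mem_normalizer_iff.1 (Subgroup.inv_mem _ ht₁N.2) r).1 hr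
        rw [inv_inv] at hr'
        have h2 : (t₁⁻¹ * r * t₁) * (x : Ω) = x * (t₁⁻¹ * r * t₁) := x.2.2 _ hr'
        calc r * ((x : Ω)⁻¹ * (t₁ * x * t₁⁻¹)) = (x : Ω)⁻¹ * (t₁ * ((t₁⁻¹ * r * t₁) * x) * t₁⁻¹) := by
              rw [← mul_assoc, show r * (x : Ω)⁻¹ = (x : Ω)⁻¹ * r from ((show Commute r (x : Ω) from h1).inv_right).eq]
              group
          _ = (x : Ω)⁻¹ * (t₁ * (x * (t₁⁻¹ * r * t₁)) * t₁⁻¹) := by rw [h2]
          _ = _ := by group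
    · rw [hbe]
      show t₁ * χ (Subgroup.inclusion hRN x) * t₁⁻¹ = _
      rw [← map_inv, ← map_mul, ← map_mul]
      exact congrArg χ (Subtype.ext (hte x).symm)
  · rintro a ⟨b, hb, hbm, hbu⟩ P hP
    have hPC : P ≤ Subgroup.centralizer (R : Set Ω) := hP.trans inf_le_right
    have hPN : P ≤ normalizerIn S R :=
      le_inf (hP.trans inf_le_left) (hPC.trans (Subgroup.centralizer_le_normalizer _))
    have hWN : R ⊔ P ≤ normalizerIn S R := sup_le hRN hPN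
    have hWS' : R ⊔ P ≤ S := hWN.trans inf_le_left
    have := finite_of_le hWS'
    have hPim : ∀ x : P, χ (Subgroup.inclusion hPN x) ∈ C₁ := fun x => by
      refine ⟨(hχv _).1, fun r hr => ?_⟩
      obtain ⟨y, rfl⟩ := hχsur r hr
      rw [← map_mul, ← map_mul]
      exact congrArg χ (Subtype.ext (hPC x.2 y y.2))
    have hv : ∀ w : ↥(R ⊔ P), res χ hWN w ∈ R₁ ⊔ C₁ := by
      have hle : R ⊔ P ≤ ((R₁ ⊔ C₁).comap (res χ hWN)).map (R ⊔ P).subtype :=
        sup_le (fun g hg => ⟨⟨g, le_sup_left (b := P) hg⟩, Subgroup.mem_sup_left (hχmem ⟨g, hg⟩), rfl⟩)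
          (fun g hg => ⟨⟨g, le_sup_right (a := R) hg⟩, Subgroup.mem_sup_right (hPim ⟨g, hg⟩), rfl⟩)
      intro w
      obtain ⟨w', hw', ew⟩ := hle w.2
      rw [show w = w' from Subtype.ext ew.symm]
      exact hw'
    obtain ⟨f, hf, hfe⟩ := exists_comp F (res_mem F hχ hWN) ((mem_autGroup F hWS).1 hb) hv
    obtain ⟨i, hi, hir, hie⟩ := exists_inv F (res_mem F hχ hWN) rfl
    have hfin : ∀ w, f w ∈ (res χ hWN).range := fun w => by
      rw [hfe]
      show ((b ⟨res χ hWN w, hv w⟩ : ↥(R₁ ⊔ C₁)) : Ω) ∈ (res χ hWN).range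
      have h1 := hbm ⟨res χ hWN w, hv w⟩
      obtain ⟨y, hy⟩ := hχsur _ h1
      have h2 : ((b ⟨res χ hWN w, hv w⟩ : ↥(R₁ ⊔ C₁)) : Ω) = res χ hWN w * χ (Subgroup.inclusion hRN y) := by
        rw [hy, mul_inv_cancel_left]
      rw [h2]
      exact (res χ hWN).range.mul_mem ⟨w, rfl⟩ ⟨Subgroup.inclusion le_sup_left y, rfl⟩
    obtain ⟨g, hg, hge⟩ := exists_comp F hf hi hfin
    obtain ⟨c, hc, hce⟩ := exists_autGroup_of_mem F hg fun w => (hge w).symm ▸ hir.le ⟨_, rfl⟩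
    have hcval : ∀ w, res χ hWN (c w) = f w := fun w => by
      obtain ⟨v, hv'⟩ := hfin w
      have : c w = v := Subtype.ext (by
        rw [hce, hge]
        exact (congrArg i (Subtype.ext hv'.symm)).trans (hie v ⟨v, rfl⟩))
      rw [this, hv']
    refine ⟨c, hc, fun w => ?_, fun x => ?_⟩
    · have h1 := hbm ⟨res χ hWN w, hv w⟩
      obtain ⟨y, hy⟩ := hχsur _ h1
      have h2 : res χ hWN (c w) = res χ hWN (w * Subgroup.inclusion le_sup_left y) := by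
        rw [hcval, hfe, map_mul]
        show _ = res χ hWN w * χ (Subgroup.inclusion hRN y)
        rw [hy, mul_inv_cancel_left]
        rfl
      rw [(F.injective_of_mem (res_mem F hχ hWN)) h2]
      show (w : Ω)⁻¹ * ((w : Ω) * y) ∈ R
      rw [inv_mul_cancel_left]
      exact y.2
    · have h2 : res χ hWN (c (Subgroup.inclusion le_sup_left x)) =
          res χ hWN (Subgroup.inclusion le_sup_left ((a : MulAut R) x)) := by
        rw [hcval, hfe]
        exact hbu x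
      rw [(F.injective_of_mem (res_mem F hχ hWN)) h2]
      rfl

end Cfsg.Agent.H94
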