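import Cfsg.Agent.H50.PResidualBasics
import Cfsg.Agent.H35.Constrained
import Cfsg.Agent.H59.PSolvable
import Cfsg.Agent.H19.Basic
import Cfsg.Agent.H19.Cores

/-! Series of characteristic subgroups with factors of order a power of `p` or prime to `p`. -/

set_option autoImplicit false

namespace Cfsg.Agent.H94

variable {p : ℕ}

/-- A series of characteristic subgroups with `p` or `p'` factors. -/
def CharSeries (p : ℕ) (G : Type*) [Group G] : Prop :=
  ∃ (n : ℕ) (H : Fin (n + 1) → Subgroup G),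
    H 0 = ⊥ ∧ H (Fin.last n) = ⊤ ∧ Monotone H ∧ (∀ i, (H i).Characteristic) ∧
    ∀ i : Fin n, (∃ m : ℕ, (H i.castSucc).relIndex (H i.succ) = p ^ m) ∨
      ((H i.castSucc).relIndex (H i.succ)).Coprime p

variable {G : Type*} [Group G]

theorem CharSeries.isPSolvable (h : CharSeries p G) : Cfsg.IsPSolvable p G := by
  obtain ⟨n, H, h0, hn, hm, hc, hs⟩ := h
  exact ⟨n, H, h0, hn, hm, fun i => have := hc i; inferInstance, hs⟩

theorem charSeries_of_subsingleton [Subsingleton G] : CharSeries p G :=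
  ⟨0, fun _ => ⊥, rfl, Subsingleton.elim _ _, fun _ _ _ => le_rfl,
    fun _ => inferInstance, fun i => i.elim0⟩

/-- Extension by a characteristic subgroup. -/
theorem CharSeries.extend {N : Subgroup G} [hN : N.Characteristic] (h : CharSeries p N)
    (hidx : (∃ m : ℕ, N.index = p ^ m) ∨ N.index.Coprime p) : CharSeries p G := by
  obtain ⟨n, H, h0, hn, hm, hc, hs⟩ := h
  refine ⟨n + 1, Fin.snoc (fun i => (H i).map N.subtype) ⊤, ?_, ?_, ?_, ?_, ?_⟩
  · rw [show (0 : Fin (n + 1 + 1)) = Fin.castSucc 0 from rfl, Fin.snoc_castSucc, h0, Subgroup.map_bot]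
  · exact Fin.snoc_last _ _
  · intro i j hij
    induction j using Fin.lastCases with
    | last => rw [Fin.snoc_last]; exact le_top
    | cast j =>
      induction i using Fin.lastCases with
      | last => exact absurd hij (not_le.2 (Fin.castSucc_lt_last j))
      | cast i =>
        rw [Fin.snoc_castSucc, Fin.snoc_castSucc]
        exact Subgroup.map_mono (hm (by simpa using hij))
  · intro i
    induction i using Fin.lastCases with
    | last => rw [Fin.snoc_last]; infer_instance
    | cast i =>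
      rw [Fin.snoc_castSucc]
      refine Subgroup.characteristic_iff_map_le.2 fun φ => ?_
      rintro _ ⟨_, ⟨x, hx, rfl⟩, rfl⟩
      have hNφ : N.map φ.toMonoidHom = N := Subgroup.characteristic_iff_map_eq.1 hN φ
      let ψ : MulAut N := ((φ.subgroupMap N).trans (MulEquiv.subgroupCongr hNφ))
      exact ⟨ψ x, Subgroup.characteristic_iff_map_le.1 (hc i) ψ ⟨x, hx, rfl⟩, rfl⟩
  · intro i
    induction i using Fin.lastCases with
    | last =>
      rw [Fin.snoc_castSucc, Fin.succ_last, Fin.snoc_last, hn, ← MonoidHom.range_eq_map, Subgroup.range_subtype,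
        Subgroup.relIndex_top_right]
      exact hidx
    | cast i =>
      rw [Fin.succ_castSucc, Fin.snoc_castSucc, Fin.snoc_castSucc,
        Subgroup.relIndex_map_map_of_injective _ _ N.subtype_injective]
      exact hs i

/-- `O^{p'}`. -/
def pClosure (p : ℕ) (G : Type*) [Group G] : Subgroup G :=
  Subgroup.closure {g | ∃ k : ℕ, orderOf g = p ^ k}

theorem mem_pClosure_of_pow {g : G} [Fact p.Prime] {k : ℕ} (h : g ^ p ^ k = 1) : g ∈ pClosure p G := by
  refine Subgroup.subset_closure ?_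
  obtain ⟨j, -, hj⟩ := (Nat.dvd_prime_pow (Fact.out : p.Prime)).1 (orderOf_dvd_of_pow_eq_one h)
  exact ⟨j, hj⟩

instance pClosure_characteristic : (pClosure p G).Characteristic := by
  refine Subgroup.characteristic_iff_map_le.2 fun φ => ?_
  rw [pClosure, MonoidHom.map_closure]
  apply Subgroup.closure_mono
  rintro _ ⟨y, ⟨k, hk⟩, rfl⟩
  exact ⟨k, by rw [orderOf_injective φ.toMonoidHom φ.injective, hk]⟩

instance pResidual_characteristic : (Cfsg.pResidual p G).Characteristic := by
  refine Subgroup.characteristic_iff_map_le.2 fun φ => ?_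
  exact H50.map_pResidual_le p φ.toMonoidHom

variable [Finite G] [Fact p.Prime]

theorem pClosure_index_coprime : (pClosure p G).index.Coprime p := by
  rw [Nat.coprime_comm, Nat.Prime.coprime_iff_not_dvd Fact.out]
  intro h
  obtain ⟨x, hx⟩ := exists_prime_orderOf_dvd_card' (G := G ⧸ pClosure p G) p h
  obtain ⟨g, rfl⟩ := QuotientGroup.mk_surjective x
  obtain ⟨a, b, hs, ⟨k, hk⟩, hb⟩ := H50.exists_p_p'_split (p := p) g
  have ha : (QuotientGroup.mk (g ^ a) : G ⧸ pClosure p G) = 1 :=
    (QuotientGroup.eq_one_iff _).2 (Subgroup.subset_closure ⟨k, hk⟩)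
  have hd : orderOf (QuotientGroup.mk g : G ⧸ pClosure p G) ∣ orderOf (g ^ b) := by
    have hgb : (QuotientGroup.mk g : G ⧸ pClosure p G) = QuotientGroup.mk (g ^ b) := by
      conv_lhs => rw [hs]
      rw [QuotientGroup.mk_mul, ha, one_mul]
    rw [hgb]
    exact orderOf_map_dvd (QuotientGroup.mk' (pClosure p G)) _
  rw [hx] at hd
  exact absurd (Nat.eq_one_of_dvd_coprimes (hb.coprime_dvd_left hd) dvd_rfl dvd_rfl)
    (Fact.out : p.Prime).one_lt.ne'

theorem exists_pResidual_index : ∃ m : ℕ, (Cfsg.pResidual p G).index = p ^ m := by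
  have := H50.pResidual_normal p G
  exact IsPGroup.iff_card.1 (H50.isPGroup_quotient_of_pResidual_le (le_refl (Cfsg.pResidual p G)))

omit [Finite G] in
theorem pClosure_pClosure : pClosure p (pClosure p G) = ⊤ := by
  rw [eq_top_iff]
  intro x _
  have h : pClosure p G ≤ (pClosure p (pClosure p G)).map (pClosure p G).subtype := by
    show Subgroup.closure _ ≤ _
    rw [Subgroup.closure_le]
    rintro g ⟨k, hk⟩
    exact ⟨⟨g, Subgroup.subset_closure ⟨k, hk⟩⟩,
      Subgroup.subset_closure ⟨k, by rw [← Subgroup.orderOf_coe]; exact hk⟩, rfl⟩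
  obtain ⟨y, hy, hyx⟩ := h x.2
  rwa [show x = y from Subtype.ext hyx.symm]

/-- A nontrivial `p`-soluble group equal to `O^{p'}` differs from `O^p`. -/
theorem pResidual_ne_top [Nontrivial G] (h : Cfsg.IsPSolvable p G) (hcl : pClosure p G = ⊤) :
    Cfsg.pResidual p G ≠ ⊤ := by
  obtain ⟨n, H, h0, hn, -, hnor, hstep⟩ := h
  obtain ⟨i, hi, hi'⟩ : ∃ i : Fin n, H i.castSucc ≠ ⊤ ∧ H i.succ = ⊤ := by
    by_contra hcon
    push Not at hcon
    have : ∀ i, H i ≠ ⊤ := by
      intro i
      induction i using Fin.induction with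
      | zero => rw [h0]; exact bot_ne_top
      | succ j ih => exact hcon j ih
    exact this _ hn
  have := hnor i.castSucc
  have hq := hstep i
  rw [hi', Subgroup.relIndex_top_right] at hq
  rcases hq with ⟨m, hm⟩ | hc
  · refine fun he => hi (top_le_iff.1 (he ▸ ?_))
    have hA : IsPGroup p (G ⧸ H i.castSucc) := IsPGroup.of_card hm
    have := H50.pResidual_le_ker (QuotientGroup.mk' (H i.castSucc)) hA
    rwa [QuotientGroup.ker_mk'] at this
  · refine absurd (top_le_iff.1 ?_) hi
    rw [← hcl]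
    show Subgroup.closure _ ≤ _
    rw [Subgroup.closure_le]
    rintro g ⟨k, hk⟩
    exact H59.mem_of_normal_index_coprime ((Nat.Prime.coprime_iff_not_dvd Fact.out).1 hc.symm)
      (k := k) (hk ▸ pow_orderOf_eq_one g)

/-- A normal subgroup of a group with self-centralizing `O_p` has self-centralizing `O_p`. -/
theorem centralizer_pCore_le_of_normal (hG : Subgroup.centralizer ((Cfsg.pCore p G : Subgroup G) : Set G) ≤
    Cfsg.pCore p G) (N : Subgroup G) [N.Normal] :
    Subgroup.centralizer ((Cfsg.pCore p N : Subgroup N) : Set N) ≤ Cfsg.pCore p N := by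
  set Q := Cfsg.pCore p G with hQ
  have hQn : Q.Normal := H19.pCore_normal p G
  have hQp : IsPGroup p Q := H19.pCore_isPGroup p
  have hQN : Q.subgroupOf N ≤ Cfsg.pCore p N :=
    H19.le_pCore inferInstance (hQp.comap_of_injective _ N.subtype_injective)
  set C := Subgroup.centralizer ((Cfsg.pCore p N : Subgroup N) : Set N)
  have := H19.pCore_normal p N
  have hCn : C.Normal := inferInstance
  refine H19.le_pCore hCn ?_
  have key : ∀ c ∈ C, ∀ q ∈ Q, ∀ n : ℕ, (c : G) ^ n * q * ((c : G) ^ n)⁻¹ = ((c : G) * q * (c : G)⁻¹ * q⁻¹) ^ n * q ∧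
      (c : G) * ((c : G) * q * (c : G)⁻¹ * q⁻¹) = ((c : G) * q * (c : G)⁻¹ * q⁻¹) * (c : G) := by
    intro c hc q hq n
    have hd : (c : G) * q * (c : G)⁻¹ * q⁻¹ ∈ N := by
      have := N.mul_mem c.2 (Subgroup.Normal.conj_mem inferInstance _ (N.inv_mem c.2) q)
      simpa [mul_assoc] using this
    have hdQ : (c : G) * q * (c : G)⁻¹ * q⁻¹ ∈ Q := Q.mul_mem (hQn.conj_mem q hq c) (Q.inv_mem hq)
    set d := (c : G) * q * (c : G)⁻¹ * q⁻¹
    have hcd : (c : G) * d = d * (c : G) :=
      (congrArg Subtype.val (Subgroup.mem_centralizer_iff.1 hc ⟨d, hd⟩ (hQN (Subgroup.mem_subgroupOf.2 hdQ)))).symm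
    refine ⟨?_, hcd⟩
    induction n with
    | zero => simp
    | succ n ih =>
      have h2 : (c : G) * d ^ n = d ^ n * (c : G) := (Commute.pow_right (show Commute (c : G) d from hcd) n).eq
      calc (c : G) ^ (n + 1) * q * ((c : G) ^ (n + 1))⁻¹
          = (c : G) * ((c : G) ^ n * q * ((c : G) ^ n)⁻¹) * (c : G)⁻¹ := by rw [pow_succ']; group
        _ = (c : G) * d ^ n * q * (c : G)⁻¹ := by rw [ih]; group
        _ = d ^ n * ((c : G) * q * (c : G)⁻¹) := by rw [h2]; group
        _ = d ^ (n + 1) * q := by rw [pow_succ]; simp [d, mul_assoc]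
  obtain ⟨m, hm⟩ := IsPGroup.iff_card.1 hQp
  intro c
  have hz : ((c : N) : G) ^ p ^ m ∈ Subgroup.centralizer (Q : Set G) := by
    refine Subgroup.mem_centralizer_iff.2 fun q hq => ?_
    obtain ⟨h, -⟩ := key c c.2 q hq (p ^ m)
    have hd1 : (((c : N) : G) * q * ((c : N) : G)⁻¹ * q⁻¹) ^ p ^ m = 1 := by
      have hmem : ((c : N) : G) * q * ((c : N) : G)⁻¹ * q⁻¹ ∈ Q := Q.mul_mem (hQn.conj_mem q hq _) (Q.inv_mem hq)
      have := congrArg Subtype.val (pow_card_eq_one' (x := (⟨_, hmem⟩ : Q)))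
      rw [hm] at this
      simpa using this
    rw [hd1, one_mul, mul_inv_eq_iff_eq_mul] at h
    exact h.symm
  obtain ⟨j, hj⟩ := hQp ⟨_, hG hz⟩
  refine ⟨m + j, Subtype.ext (Subtype.ext ?_)⟩
  have := congrArg Subtype.val hj
  simpa [pow_add, pow_mul] using this

end Cfsg.Agent.H94
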