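import Cfsg.Agent.H94.CharSeries
import Cfsg.Agent.H94.HyperfocalTheorem
import Cfsg.Agent.H96.MorphismTransport
import Cfsg.Agent.H93.Realized
import Cfsg.Agent.H93.ModelConstruction
import Cfsg.Agent.H94.CongExt

/-! The residual subsystems of a system with a model. -/

set_option autoImplicit false

namespace Cfsg.Agent.H94

open Cfsg Cfsg.FusionSystem Cfsg.Agent.H96

variable {Ω : Type*} [Group Ω] {S : Subgroup Ω} {F : FusionSystem S} {p : ℕ} {G : Type*} [Group G] {ι : S →* G}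

theorem eq_one_of_coprime_pows {M : Type*} [Monoid M] {x : M} {n k : ℕ} (h1 : x ^ n = 1) (h2 : x ^ p ^ k = 1)
    (hn : n.Coprime p) : x = 1 := by
  have hd : orderOf x ∣ Nat.gcd n (p ^ k) :=
    Nat.dvd_gcd (orderOf_dvd_of_pow_eq_one h1) (orderOf_dvd_of_pow_eq_one h2)
  rwa [(hn.pow_right k).gcd_eq_one, Nat.dvd_one, orderOf_eq_one_iff] at hd

/-- The element induces the automorphism through `ι`. -/
def Induces (ι : S →* G) {P : Subgroup Ω} (hP : P ≤ S) (g : G) (α : MulAut P) : Prop :=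
  ∀ x : P, ι ⟨(α x : P), hP (α x).2⟩ = g * ι ⟨x, hP x.2⟩ * g⁻¹

theorem Induces.unique (hi : Function.Injective ι) {P : Subgroup Ω} {hP : P ≤ S} {g : G} {α β : MulAut P}
    (h : Induces ι hP g α) (h' : Induces ι hP g β) : α = β :=
  MulEquiv.ext fun x => Subtype.ext (congrArg (fun s : S => (s : Ω)) (hi ((h x).trans (h' x).symm)) :)

theorem Induces.one {P : Subgroup Ω} {hP : P ≤ S} : Induces ι hP 1 1 := fun x => by simp

theorem Induces.mul {P : Subgroup Ω} {hP : P ≤ S} {g g' : G} {α β : MulAut P} (h : Induces ι hP g α)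
    (h' : Induces ι hP g' β) : Induces ι hP (g * g') (α * β) := fun x => by
  show ι ⟨(α (β x) : P), _⟩ = _
  rw [h (β x), h' x]
  group

theorem Induces.pow {P : Subgroup Ω} {hP : P ≤ S} {g : G} {α : MulAut P} (h : Induces ι hP g α) (n : ℕ) :
    Induces ι hP (g ^ n) (α ^ n) := by
  induction n with
  | zero => simpa using Induces.one
  | succ n ih => rw [pow_succ, pow_succ]; exact ih.mul h

theorem Induces.inv {P : Subgroup Ω} {hP : P ≤ S} {g : G} {α : MulAut P} (h : Induces ι hP g α) :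
    Induces ι hP g⁻¹ α⁻¹ := fun x => by
  have := h (α⁻¹ x)
  rw [show (⟨((α (α⁻¹ x) : P) : Ω), hP (α (α⁻¹ x)).2⟩ : S) = ⟨x, hP x.2⟩ from
    Subtype.ext (congrArg Subtype.val (α.apply_symm_apply x) :)] at this
  rw [this]
  group

theorem exists_induces (hr : F.IsRealizedBy ι) {P : Subgroup Ω} (hP : P ≤ S) {α : MulAut P}
    (hα : α ∈ F.autGroup P) : ∃ g, Induces ι hP g α :=
  (hr.2 P hP _ fun x => hP (α x).2).1 ((mem_autGroup F hP).1 hα)

variable [Finite G] [Fact p.Prime]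

/-- An automorphism of `p`-power order is induced by an element of `O^{p'}`. -/
theorem exists_induces_pClosure (hr : F.IsRealizedBy ι) {P : Subgroup Ω} (hP : P ≤ S) {α : MulAut P}
    (hα : α ∈ F.autGroup P) {k : ℕ} (hk : α ^ p ^ k = 1) : ∃ g ∈ pClosure p G, Induces ι hP g α := by
  obtain ⟨g, hg⟩ := exists_induces hr hP hα
  obtain ⟨a, b, hab, ⟨j, hj⟩, hb⟩ := H50.exists_p_p'_split (p := p) g
  refine ⟨g ^ a, Subgroup.subset_closure ⟨j, hj⟩, ?_⟩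
  have hb1 : α ^ b = 1 := by
    refine eq_one_of_coprime_pows (p := p) (n := orderOf (g ^ b)) (k := k) ?_ ?_ ?_
    · refine Induces.unique hr.1 ((hg.pow b).pow (orderOf (g ^ b))) ?_
      rw [pow_orderOf_eq_one]
      exact Induces.one
    · rw [← pow_mul, mul_comm, pow_mul, hk, one_pow]
    · exact hb
  have he : α = α ^ a := by
    refine Induces.unique hr.1 hg ?_
    have h := (hg.pow a).mul (hg.pow b)
    rwa [← hab, hb1, mul_one] at h
  rw [he]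
  exact hg.pow a

/-- An automorphism of order prime to `p` is induced by an element of `O^p`. -/
theorem exists_induces_pResidual (hr : F.IsRealizedBy ι) {P : Subgroup Ω} (hP : P ≤ S) {α : MulAut P}
    (hα : α ∈ F.autGroup P) (hord : (orderOf α).Coprime p) : ∃ g ∈ pResidual p G, Induces ι hP g α := by
  obtain ⟨g, hg⟩ := exists_induces hr hP hα
  obtain ⟨a, b, hab, ⟨j, hj⟩, hb⟩ := H50.exists_p_p'_split (p := p) g
  refine ⟨g ^ b, Subgroup.subset_closure hb, ?_⟩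
  have ha1 : α ^ a = 1 := by
    refine eq_one_of_coprime_pows (p := p) (n := orderOf α) (k := j) ?_ ?_ hord
    · rw [← pow_mul, mul_comm, pow_mul, pow_orderOf_eq_one, one_pow]
    · refine Induces.unique hr.1 ((hg.pow a).pow (p ^ j)) ?_
      rw [← hj, pow_orderOf_eq_one]
      exact Induces.one
  have he : α = α ^ b := by
    refine Induces.unique hr.1 hg ?_
    have h := (hg.pow a).mul (hg.pow b)
    rwa [← hab, ha1, one_mul] at h
  rw [he]
  exact hg.pow b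

/-- The system induced by a normal subgroup. -/
theorem exists_realized_normal (hG : F.IsModel p G ι) {N : Subgroup G} [N.Normal] {T : Subgroup Ω}
    (hTN : ∀ x, x ∈ T ↔ ∃ hx : x ∈ S, ι ⟨x, hx⟩ ∈ N) :
    ∃ (D : FusionSystem T) (ι' : T →* N), D.IsModel p N ι' ∧ D.IsSubsystemOf F ∧
      ∀ (P : Subgroup Ω) (φ : P →* Ω), φ ∈ D.Hom P ↔ P ≤ T ∧ (∀ x, φ x ∈ T) ∧ φ ∈ F.Hom P ∧
        ∃ g ∈ N, ∀ (x : P) (hy : φ x ∈ S) (hx : (x : Ω) ∈ S), ι ⟨φ x, hy⟩ = g * ι ⟨x, hx⟩ * g⁻¹ := by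
  obtain ⟨-, hr, ⟨R, hR⟩, hc⟩ := id hG
  have hTS : T ≤ S := fun x hx => ((hTN x).1 hx).choose
  have hTι : ∀ t : T, ι ⟨t, hTS t.2⟩ ∈ N := fun t => ((hTN t).1 t.2).choose_spec
  let D : FusionSystem T :=
    { Hom := fun P => {φ | P ≤ T ∧ (∀ x, φ x ∈ T) ∧ φ ∈ F.Hom P ∧
        ∃ g ∈ N, ∀ (x : P) (hy : φ x ∈ S) (hx : (x : Ω) ∈ S), ι ⟨φ x, hy⟩ = g * ι ⟨x, hx⟩ * g⁻¹}
      le_of_mem := fun h => ⟨h.1, h.2.1⟩
      injective_of_mem := fun h => F.injective_of_mem h.2.2.1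
      conj_mem := fun {P t} hP ht => ⟨hP, fun x => T.mul_mem (T.mul_mem ht (hP x.2)) (T.inv_mem ht),
        F.conj_mem (hP.trans hTS) (hTS ht), ι ⟨t, hTS ht⟩, hTι ⟨t, ht⟩, fun x hy hx => by
          rw [show (⟨conjHom P t x, hy⟩ : S) = ⟨t, hTS ht⟩ * ⟨x, hx⟩ * ⟨t, hTS ht⟩⁻¹ from rfl,
            map_mul, map_mul, map_inv]⟩
      comp_mem := fun {P Q φ ψ} hφ hψ h => by
        obtain ⟨hP, hφT, hφF, g, hg, hge⟩ := hφ
        obtain ⟨hQ, hψT, hψF, g', hg', hg'e⟩ := hψ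
        refine ⟨hP, fun x => hψT _, F.comp_mem hφF hψF h, g' * g, N.mul_mem hg' hg, fun x hy hx => ?_⟩
        rw [show (⟨(ψ.comp (φ.codRestrict Q h)) x, hy⟩ : S) = ⟨ψ ⟨φ x, h x⟩, hTS (hψT _)⟩ from rfl,
          hg'e ⟨φ x, h x⟩ _ (hTS (hφT x)), hge x (hTS (hφT x)) hx]
        group
      inv_mem := fun {P φ} hφ => by
        obtain ⟨hP, hφT, hφF, g, hg, hge⟩ := hφ
        obtain ⟨ψ, hψ, hψe⟩ := F.inv_mem hφF
        have hv : ∀ y : φ.range, ψ y ∈ T := by rintro ⟨_, x, rfl⟩; rw [hψe]; exact hP x.2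
        refine ⟨ψ, ⟨by rintro _ ⟨x, rfl⟩; exact hφT x, hv, hψ, g⁻¹, N.inv_mem hg, ?_⟩, hψe⟩
        rintro ⟨_, x, rfl⟩ hy hx
        rw [show (⟨ψ ⟨φ x, x, rfl⟩, hy⟩ : S) = ⟨x, hTS (hP x.2)⟩ from Subtype.ext (hψe x), hge x hx (hTS (hP x.2))]
        group }
  set ι' : T →* N := (ι.comp (Subgroup.inclusion hTS)).codRestrict N hTι
  have hi' : Function.Injective ι' := fun a b h =>
    Subtype.ext (congrArg (fun s : S => (s : Ω)) (hr.1 (congrArg Subtype.val h)) :)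
  refine ⟨D, ι', ⟨inferInstance, ⟨hi', fun P hP φ hφ => ⟨?_, ?_⟩⟩, ?_,
    centralizer_pCore_le_of_normal hc N⟩, fun P φ h => h.2.2.1, fun P φ => Iff.rfl⟩
  · rintro ⟨-, -, -, g, hg, hge⟩
    exact ⟨⟨g, hg⟩, fun x => Subtype.ext (hge x (hTS (hφ x)) (hTS (hP x.2)))⟩
  · rintro ⟨g, hge⟩
    refine ⟨hP, hφ, (hr.2 P (hP.trans hTS) φ fun x => hTS (hφ x)).2 ⟨g, fun x => congrArg Subtype.val (hge x)⟩,
      g, g.2, fun x hy hx => congrArg Subtype.val (hge x)⟩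
  · obtain ⟨R', hR'⟩ := exists_sylow_inf_normal R N
    refine ⟨R', hR'.trans ?_⟩
    ext x
    rw [Subgroup.mem_subgroupOf, hR]
    constructor
    · rintro ⟨⟨s, hs⟩, hxN⟩
      exact ⟨⟨s, (hTN s).2 ⟨s.2, hs ▸ hxN⟩⟩, Subtype.ext hs⟩
    · rintro ⟨t, rfl⟩
      exact ⟨⟨⟨t, hTS t.2⟩, rfl⟩, (ι' t).2⟩

variable [Finite S]

/-- The residual subsystem for index prime to `p` of a system with a model. -/
theorem pPrimeResidual_model (hS : IsPGroup p S) (hG : F.IsModel p G ι) {E : FusionSystem S}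
    (hE : F.IsPPrimeResidual p E) : ∃ ι' : S →* pClosure p G, E.IsModel p (pClosure p G) ι' := by
  obtain ⟨-, hr, hR, hc⟩ := id hG
  obtain ⟨hEs, hidx, hmin⟩ := hE
  have hsN : ∀ s : S, ι s ∈ pClosure p G := fun s => by
    obtain ⟨k, hk⟩ := hS s
    exact mem_pClosure_of_pow (k := k) (by rw [← map_pow, hk, map_one])
  obtain ⟨D, ι', hD, hDF, hDiff⟩ := exists_realized_normal hG (N := pClosure p G) (T := S)
    fun x => ⟨fun hx => ⟨hx, hsN ⟨x, hx⟩⟩, fun h => h.choose⟩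
  have hDs : D.IsSaturated p := H93.IsRealizedBy.isSaturated hD.2.1 hD.2.2.1
  have hDidx : D.HasPrimeToPIndexIn F p := by
    refine ⟨hDF, fun P hP => ?_⟩
    rw [Subgroup.map_le_iff_le_comap, Subgroup.closure_le]
    rintro α ⟨k, hk⟩
    have hk' : (α : MulAut P) ^ p ^ k = 1 := by rw [← hk]; exact congrArg Subtype.val (pow_orderOf_eq_one α)
    obtain ⟨g, hg, hge⟩ := exists_induces_pClosure hr hP α.2 hk'
    exact (mem_autGroup D hP).2 ((hDiff P _).2 ⟨hP, fun x => hP ((α : MulAut P) x).2,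
      (mem_autGroup F hP).1 α.2, g, hg, fun x hy hx => hge x⟩)
  set Q := H93.modelCore p ι
  obtain ⟨hQn, -⟩ := H93.IsModel.modelCore_normal_centric hG
  have hQS := hQn.1
  have := finite_of_le hQS
  have hSn := (H93.Models.le_normalizerIn_self hQn)
  have hQfn : E.IsFullyNormalized Q := ⟨hQS, fun R hR' => by
    have : Finite ↥(normalizerIn S Q) := finite_of_le inf_le_left
    exact Subgroup.card_le_of_le (inf_le_left.trans hSn)⟩
  obtain ⟨-, hrec⟩ := fullyNormalized_spec hS hEs hQfn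
  have hrange := H93.pCore_le_range hR
  have hQι : ∀ q : Q, ι ⟨q, hQS q.2⟩ ∈ pCore p G := fun q => (H93.mem_modelCore.1 q.2).choose_spec
  have hautE : ∀ g ∈ pClosure p G, ∃ a ∈ E.autGroup Q, Induces ι hQS g a := by
    intro g hg
    induction hg using Subgroup.closure_induction with
    | one => exact ⟨1, one_mem _, Induces.one⟩
    | mul a b _ _ ha hb =>
      obtain ⟨α, hα, hαi⟩ := ha
      obtain ⟨β, hβ, hβi⟩ := hb
      exact ⟨α * β, mul_mem hα hβ, hαi.mul hβi⟩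
    | inv a _ ha =>
      obtain ⟨α, hα, hαi⟩ := ha
      exact ⟨α⁻¹, inv_mem hα, hαi.inv⟩
    | mem g hg =>
      obtain ⟨k, hk⟩ := hg
      have hex : ∀ q : Q, ∃ s : S, ι s = g * ι ⟨q, hQS q.2⟩ * g⁻¹ ∧ (s : Ω) ∈ Q := fun q => by
        have hm : g * ι ⟨q, hQS q.2⟩ * g⁻¹ ∈ pCore p G := (H19.pCore_normal p G).conj_mem _ (hQι q) g
        obtain ⟨s, hs⟩ := hrange hm
        exact ⟨s, hs, H93.mem_modelCore.2 ⟨s.2, hs ▸ hm⟩⟩
      choose f hf hfQ using hex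
      let φ : Q →* Ω := MonoidHom.mk' (fun q => (f q : Ω)) fun a b => by
        rw [← Subgroup.coe_mul]
        refine congrArg (fun s : S => (s : Ω)) (hr.1 ?_)
        rw [map_mul, hf, hf, hf, show (⟨((a * b : Q) : Ω), hQS (a * b).2⟩ : S) = ⟨a, hQS a.2⟩ * ⟨b, hQS b.2⟩
          from rfl, map_mul]
        group
      have hφF : φ ∈ F.Hom Q := (hr.2 Q hQS φ fun q => (f q).2).2 ⟨g, fun q => hf q⟩
      obtain ⟨a, ha, hae⟩ := exists_autGroup_of_mem F hφF hfQ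
      have hai : Induces ι hQS g a := fun q => by
        rw [show (⟨((a q : Q) : Ω), hQS (a q).2⟩ : S) = f q from Subtype.ext (hae q)]
        exact hf q
      refine ⟨a, hidx.2 Q hQS ⟨⟨a, ha⟩, Subgroup.subset_closure ?_, rfl⟩, hai⟩
      have hak : a ^ p ^ k = 1 := Induces.unique hr.1 (hai.pow (p ^ k)) (by
        rw [← hk, pow_orderOf_eq_one]; exact Induces.one)
      obtain ⟨j, -, hj⟩ := (Nat.dvd_prime_pow (Fact.out : p.Prime)).1
        (orderOf_dvd_of_pow_eq_one (show (⟨a, ha⟩ : F.autGroup Q) ^ p ^ k = 1 from Subtype.ext hak))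
      exact ⟨j, hj⟩
  have hDE : D ≤ E := by
    intro P φ hφ
    obtain ⟨hP, hφS, hφF, g, hg, hge⟩ := (hDiff P φ).1 hφ
    obtain ⟨a, ha, hai⟩ := hautE g hg
    have haE := (mem_autGroup E hQS).1 ha
    obtain ⟨χ, hχ, hχe⟩ := hrec.2 Q _ haE (range_eq_of_forall_mem E haE fun x => (a x).2)
    have hPN : P ≤ (extender S Q (Q.subtype.comp a.toMonoidHom)) := fun x hx => mem_extender.2 ⟨hP hx, (hSn (hP hx)).2, φ ⟨x, hx⟩, hφS _, fun q hq => by
      refine (congrArg (fun s : S => (s : Ω)) (hr.1 ?_) :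
        ((⟨((a ⟨_, hq⟩ : Q) : Ω), hQS (a ⟨_, hq⟩).2⟩ : S) : Ω) =
          ((⟨φ ⟨x, hx⟩, hφS _⟩ * ⟨((a q : Q) : Ω), hQS (a q).2⟩ * ⟨φ ⟨x, hx⟩, hφS _⟩⁻¹ : S) : Ω))
      rw [hai ⟨_, hq⟩, map_mul, map_mul, map_inv, hai q, hge ⟨x, hx⟩ (hφS _) (hP hx),
        show (⟨((⟨x * (q : Ω) * x⁻¹, hq⟩ : Q) : Ω), hQS hq⟩ : S) = ⟨x, hP hx⟩ * ⟨q, hQS q.2⟩ * ⟨x, hP hx⟩⁻¹ from rfl,
        map_mul, map_mul, map_inv]
      group⟩
    have hQN : Q ≤ (extender S Q (Q.subtype.comp a.toMonoidHom)) := le_extender_self hQS haE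
    have hNS : (extender S Q (Q.subtype.comp a.toMonoidHom)) ≤ S := (E.le_of_mem hχ).1
    obtain ⟨h, hhe⟩ := (hr.2 (extender S Q (Q.subtype.comp a.toMonoidHom)) hNS χ (E.le_of_mem hχ).2).1 (hidx.1 (extender S Q (Q.subtype.comp a.toMonoidHom)) hχ)
    have hcz : h⁻¹ * g ∈ pCore p G := hc (Subgroup.mem_centralizer_iff.2 fun y hy => by
      obtain ⟨s, rfl⟩ := hrange hy
      set q : Q := ⟨s, H93.mem_modelCore.2 ⟨s.2, hy⟩⟩
      have e1 := hhe ⟨q, hQN q.2⟩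
      rw [show (⟨χ ⟨q, hQN q.2⟩, (E.le_of_mem hχ).2 _⟩ : S) = ⟨((a q : Q) : Ω), hQS (a q).2⟩ from
        Subtype.ext (hχe q q.2 (hQN q.2)), hai q] at e1
      rw [show (⟨(q : Ω), hQS q.2⟩ : S) = s from rfl] at e1
      have e2 : g * ι s * g⁻¹ = h * ι s * h⁻¹ := e1
      calc ι s * (h⁻¹ * g) = h⁻¹ * (h * ι s * h⁻¹) * g := by group
        _ = h⁻¹ * (g * ι s * g⁻¹) * g := by rw [e2]
        _ = h⁻¹ * g * ι s := by group)
    obtain ⟨z, hz⟩ := hrange hcz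
    have hzQ : (z : Ω) ∈ Q := H93.mem_modelCore.2 ⟨z.2, hz ▸ hcz⟩
    have hm : ∀ x, conjHom P (z : Ω) x ∈ (extender S Q (Q.subtype.comp a.toMonoidHom)) := fun x => Subgroup.mul_mem _ (Subgroup.mul_mem _ (hQN hzQ) (hPN x.2)) (Subgroup.inv_mem _ (hQN hzQ))
    refine mem_congr E (E.comp_mem (E.conj_mem hP z.2) hχ hm) fun x => ?_
    refine (congrArg (fun s : S => (s : Ω)) (hr.1 ?_) :
      ((⟨φ x, hφS x⟩ : S) : Ω) = ((⟨χ ⟨conjHom P (z : Ω) x, hm x⟩, (E.le_of_mem hχ).2 _⟩ : S) : Ω))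
    rw [hge x (hφS x) (hP x.2), hhe ⟨_, hm x⟩]
    show _ = h * ι (z * ⟨x, hP x.2⟩ * z⁻¹) * h⁻¹
    rw [map_mul, map_mul, map_inv, hz]
    group
  exact ⟨ι', (H93.fs_antisymm hDE (hmin D hDs hDidx) : D = E) ▸ hD⟩

/-- The residual subsystem for index a power of `p` of a system with a model. -/
theorem pResidual_model (hS : IsPGroup p S) (hG : F.IsModel p G ι) {D : FusionSystem (F.hyperfocalSubgroup p)}
    (hD : F.IsPResidual p D) :
    (∀ s : S, (s : Ω) ∈ F.hyperfocalSubgroup p ↔ ι s ∈ pResidual p G) ∧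
      ∃ ι' : F.hyperfocalSubgroup p →* pResidual p G, D.IsModel p (pResidual p G) ι' := by
  obtain ⟨-, hr, ⟨R, hR⟩, -⟩ := id hG
  have := H50.pResidual_normal p G
  have hle : F.hyperfocalSubgroup p ≤ ((pResidual p G).comap ι).map S.subtype := by
    refine (Subgroup.closure_le _).2 ?_
    rintro _ ⟨P, α, x, hP, hα, rfl⟩
    suffices h : ∀ β ∈ pResidual p (F.autGroup P), ∃ g ∈ pResidual p G, Induces ι hP g (β : MulAut P) by
      obtain ⟨g, hg, hge⟩ := h α hα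
      refine ⟨⟨x, hP x.2⟩⁻¹ * ⟨_, hP ((α : MulAut P) x).2⟩, ?_, rfl⟩
      show ι _ ∈ pResidual p G
      rw [map_mul, map_inv, hge x,
        show (ι ⟨x, hP x.2⟩)⁻¹ * (g * ι ⟨x, hP x.2⟩ * g⁻¹) = (ι ⟨x, hP x.2⟩)⁻¹ * g * (ι ⟨x, hP x.2⟩)⁻¹⁻¹ * g⁻¹ by group]
      exact mul_mem (Subgroup.Normal.conj_mem inferInstance g hg _) (inv_mem hg)
    intro β hβ
    induction hβ using Subgroup.closure_induction with
    | one => exact ⟨1, one_mem _, Induces.one⟩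
    | mul a b _ _ ha hb =>
      obtain ⟨u, hu, hui⟩ := ha
      obtain ⟨v, hv, hvi⟩ := hb
      exact ⟨u * v, mul_mem hu hv, hui.mul hvi⟩
    | inv a _ ha =>
      obtain ⟨u, hu, hui⟩ := ha
      exact ⟨u⁻¹, inv_mem hu, hui.inv⟩
    | mem b hb => exact exists_induces_pResidual hr hP b.2 (by rw [Subgroup.orderOf_coe]; exact hb)
  have hgrp : (groupFusionSystem ι.range).hyperfocalSubgroup p = ι.range ⊓ pResidual p G :=
    hR ▸ hyperfocal_eq_inf_pResidual R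
  have hiff : ∀ s : S, (s : Ω) ∈ F.hyperfocalSubgroup p ↔ ι s ∈ pResidual p G := fun s => by
    refine ⟨fun h => ?_, fun h => ?_⟩
    · obtain ⟨s', hs', e⟩ := hle h
      rwa [← show s' = s from Subtype.ext e]
    · have hm : ι s ∈ (groupFusionSystem ι.range).hyperfocalSubgroup p := hgrp.ge ⟨⟨s, rfl⟩, h⟩
      have h2 := imageAlong_hyperfocal_le (H93.realized_isSurjectiveMorphism hr) p
        (mem_imageAlong_self (⟨s, rfl⟩ : ι s ∈ ι.range) hm)
      exact (H93.realizedInv_apply hr.1 s ⟨s, rfl⟩) ▸ h2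
  refine ⟨hiff, ?_⟩
  obtain ⟨D', ι', hD', hD'F, hD'iff⟩ := exists_realized_normal hG (N := pResidual p G)
    (T := F.hyperfocalSubgroup p) fun x =>
    ⟨fun hx => ⟨hyperfocal_le F p hx, (hiff ⟨x, hyperfocal_le F p hx⟩).1 hx⟩,
      fun ⟨hx, h⟩ => (hiff ⟨x, hx⟩).2 h⟩
  have hidx : D'.HasPPowerIndexIn F p := by
    refine ⟨hD'F, le_rfl, fun P hP => ?_⟩
    rw [pResidual, MonoidHom.map_closure, Subgroup.closure_le]
    rintro _ ⟨a, ha, rfl⟩
    have hPS := hP.trans (hyperfocal_le F p)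
    obtain ⟨g, hg, hge⟩ := exists_induces_pResidual hr hPS a.2 (by rw [Subgroup.orderOf_coe]; exact ha)
    exact (mem_autGroup D' hP).2 ((hD'iff P _).2 ⟨hP, fun x => hP ((a : MulAut P) x).2,
      (mem_autGroup F hPS).1 a.2, g, hg, fun x hy hx => hge x⟩)
  exact ⟨ι', (pPowerIndex_unique hS (hyperfocal_le F p) (H93.IsRealizedBy.isSaturated hD'.2.1 hD'.2.2.1)
    hidx hD.1 hD.2 : D' = D) ▸ hD'⟩

end Cfsg.Agent.H94
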